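import Mathlib

set_option autoImplicit false
set_option linter.unusedSectionVars false
set_option linter.unusedVariables false
set_option linter.unusedSimpArgs false
set_option linter.style.haveILetI false
set_option maxHeartbeats 800000
set_option synthInstance.maxHeartbeats 400000

/-!
# Dirichlet series of the free commutative monoid on a set of "primes" with norms
(generalized Euler products, without infinite products)

For a family of norms `N : I → ℕ` we consider the monomials `∏ x_i ^ α_i`, `α : I →₀ ℕ`. We show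
summability from summability of the `x_i`, the non-vanishing of the sum, and identify the sum with
an `LSeries`.
-/

noncomputable section

namespace Groth.Agent.Lib.Helper6.ZetaBound

variable {I : Type*}

/-- The monomial function. -/
def mono {R : Type*} [CommMonoid R] (x : I → R) (α : I →₀ ℕ) : R := α.prod (fun i e => x i ^ e)

section basic

variable {R : Type*} [CommMonoid R] (x : I → R)

theorem mono_zero : mono x 0 = 1 := Finsupp.prod_zero_index

theorem mono_add (α β : I →₀ ℕ) : mono x (α + β) = mono x α * mono x β :=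
  Finsupp.prod_add_index' (fun _ => pow_zero _) (fun _ _ _ => pow_add _ _ _)

theorem mono_single (i : I) (e : ℕ) : mono x (Finsupp.single i e) = x i ^ e :=
  Finsupp.prod_single_index (pow_zero _)

theorem mono_of_support_subset (α : I →₀ ℕ) {S : Finset I} (h : α.support ⊆ S) :
    mono x α = ∏ i ∈ S, x i ^ α i :=
  Finsupp.prod_of_support_subset α h _ (fun _ _ => pow_zero _)

end basic

/-- Summability of the monomials from summability of the variables. -/
theorem summable_mono_of_summable (y : I → ℝ) (ρ : ℝ) (hρ : ρ < 1) (hy0 : ∀ i, 0 ≤ y i)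
    (hy1 : ∀ i, y i ≤ ρ) (hy : Summable y) : Summable (mono y) := by
  classical
  have hρ' : 0 < 1 - ρ := by linarith
  have hK : 0 < (1 - ρ)⁻¹ := inv_pos.mpr hρ'
  have hmono_nonneg : ∀ α, 0 ≤ mono y α :=
    fun α => Finset.prod_nonneg (fun i _ => pow_nonneg (hy0 i) _)
  refine summable_of_sum_le (c := Real.exp ((1 - ρ)⁻¹ * ∑' i, y i)) hmono_nonneg ?_
  intro T
  obtain ⟨S, hS⟩ : ∃ S : Finset I, ∀ α ∈ T, α.support ⊆ S :=
    ⟨T.biUnion Finsupp.support, fun α hα => Finset.subset_biUnion_of_mem Finsupp.support hα⟩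
  obtain ⟨E, hE⟩ : ∃ E : ℕ, ∀ α ∈ T, ∀ i, α i < E := by
    refine ⟨(T.sup fun α => α.support.sup α) + 1, fun α hα i => ?_⟩
    by_cases hi : i ∈ α.support
    · have h1 : α i ≤ α.support.sup α := Finset.le_sup (f := α) hi
      have h2 : α.support.sup α ≤ T.sup fun α => α.support.sup α :=
        Finset.le_sup (f := fun α : I →₀ ℕ => α.support.sup α) hα
      omega
    · rw [Finsupp.notMem_support_iff] at hi
      rw [hi]
      exact Nat.succ_pos _
  let Φ : (I →₀ ℕ) → (S → ℕ) := fun α i => α i.1
  have hΦinj : Set.InjOn Φ (T : Set (I →₀ ℕ)) := by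
    intro α hα β hβ h
    ext i
    by_cases hi : i ∈ S
    · exact congrFun h ⟨i, hi⟩
    · have h1 : i ∉ α.support := fun h' => hi (hS α hα h')
      have h2 : i ∉ β.support := fun h' => hi (hS β hβ h')
      rw [Finsupp.notMem_support_iff] at h1 h2
      rw [h1, h2]
  have hterm : ∀ α ∈ T, mono y α = ∏ i : S, y i.1 ^ (Φ α i) := by
    intro α hα
    rw [mono_of_support_subset y α (hS α hα)]
    exact (Finset.prod_coe_sort S (fun i => y i ^ α i)).symm
  calc ∑ α ∈ T, mono y α = ∑ α ∈ T, ∏ i : S, y i.1 ^ (Φ α i) := Finset.sum_congr rfl hterm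
    _ = ∑ p ∈ T.image Φ, ∏ i : S, y i.1 ^ (p i) :=
        (Finset.sum_image (f := fun p : S → ℕ => ∏ i : S, y i.1 ^ (p i)) hΦinj).symm
    _ ≤ ∑ p ∈ Fintype.piFinset (fun _ : S => Finset.range E), ∏ i : S, y i.1 ^ (p i) := by
        refine Finset.sum_le_sum_of_subset_of_nonneg ?_
          (fun p _ _ => Finset.prod_nonneg (fun i _ => pow_nonneg (hy0 _) _))
        intro p hp
        obtain ⟨α, hα, rfl⟩ := Finset.mem_image.mp hp
        rw [Fintype.mem_piFinset]
        intro i
        exact Finset.mem_range.mpr (hE α hα i.1)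
    _ = ∏ i : S, ∑ e ∈ Finset.range E, y i.1 ^ e :=
        (Finset.prod_univ_sum (fun _ : S => Finset.range E) (fun (i : S) e => y i.1 ^ e)).symm
    _ ≤ ∏ i : S, Real.exp ((1 - ρ)⁻¹ * y i.1) := by
        refine Finset.prod_le_prod (fun i _ => Finset.sum_nonneg (fun e _ => pow_nonneg (hy0 _) _))
          (fun i _ => ?_)
        have hyi : y i.1 < 1 := lt_of_le_of_lt (hy1 _) hρ
        have h1 : ∑ e ∈ Finset.range E, y i.1 ^ e ≤ (1 - y i.1)⁻¹ := by
          rw [← tsum_geometric_of_lt_one (hy0 _) hyi]
          exact (summable_geometric_of_lt_one (hy0 _) hyi).sum_le_tsum _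
            (fun e _ => pow_nonneg (hy0 _) _)
        have h2 : (1 - y i.1)⁻¹ ≤ 1 + (1 - ρ)⁻¹ * y i.1 := by
          have h3 : 0 < 1 - y i.1 := by linarith
          rw [inv_le_iff_one_le_mul₀ h3]
          have h4 : 1 ≤ (1 - ρ)⁻¹ * (1 - y i.1) := by
            rw [inv_mul_eq_div, le_div_iff₀ hρ']
            linarith [hy1 i.1]
          nlinarith [hy0 i.1]
        exact h1.trans (h2.trans (by linarith [Real.add_one_le_exp ((1 - ρ)⁻¹ * y i.1)]))
    _ = Real.exp ((1 - ρ)⁻¹ * ∑ i ∈ S, y i) := by
        rw [Finset.prod_coe_sort S (fun i => Real.exp ((1 - ρ)⁻¹ * y i)), ← Real.exp_sum,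
          Finset.mul_sum]
    _ ≤ Real.exp ((1 - ρ)⁻¹ * ∑' i, y i) := by
        refine Real.exp_le_exp.mpr (mul_le_mul_of_nonneg_left ?_ hK.le)
        exact hy.sum_le_tsum S (fun i _ => hy0 i)

section nonvanishing

variable (x : I → ℂ)

/-- The set of exponent vectors with support disjoint from `S`. -/
def avoid (S : Finset I) : Set (I →₀ ℕ) := {α | Disjoint α.support S}

theorem avoid_insert [DecidableEq I] (S : Finset I) (i : I) :
    avoid (insert i S) = {α : I →₀ ℕ | α i = 0} ∩ avoid S := by
  ext α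
  simp only [avoid, Set.mem_ofPred_eq, Set.mem_inter_iff, Finset.disjoint_insert_right,
    Finsupp.notMem_support_iff]

theorem tsum_avoid_insert [DecidableEq I] (hsum : Summable (mono x)) (S : Finset I) (i : I)
    (hi : i ∉ S) :
    ∑' α, (avoid (insert i S)).indicator (mono x) α =
      (1 - x i) * ∑' α, (avoid S).indicator (mono x) α := by
  have hgS : Summable ((avoid S).indicator (mono x)) := hsum.indicator _
  have h1 : ∀ α, (avoid S).indicator (mono x) α =
      ({α : I →₀ ℕ | α i = 0}).indicator ((avoid S).indicator (mono x)) α +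
      ({α : I →₀ ℕ | α i = 0}ᶜ).indicator ((avoid S).indicator (mono x)) α := fun α =>
    (congrFun (Set.indicator_self_add_compl {α : I →₀ ℕ | α i = 0}
      ((avoid S).indicator (mono x))) α).symm
  have h2 : ({α : I →₀ ℕ | α i = 0}).indicator ((avoid S).indicator (mono x)) =
      (avoid (insert i S)).indicator (mono x) := by
    rw [Set.indicator_indicator, avoid_insert]
  have hτ : Function.Injective (fun β : I →₀ ℕ => β + Finsupp.single i 1) :=
    add_left_injective _
  have hsupp : Function.support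
      (({α : I →₀ ℕ | α i = 0}ᶜ).indicator ((avoid S).indicator (mono x))) ⊆
      Set.range (fun β : I →₀ ℕ => β + Finsupp.single i 1) := by
    intro α hα
    have hα' : α ∈ ({α : I →₀ ℕ | α i = 0}ᶜ) := by
      by_contra h
      exact hα (Set.indicator_of_notMem h _)
    have hαi : α i ≠ 0 := hα'
    refine ⟨α - Finsupp.single i 1, ?_⟩
    change α - Finsupp.single i 1 + Finsupp.single i 1 = α
    refine tsub_add_cancel_of_le ?_
    rw [Finsupp.single_le_iff]
    omega
  have hshift : ∀ β : I →₀ ℕ,
      ({α : I →₀ ℕ | α i = 0}ᶜ).indicator ((avoid S).indicator (mono x))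
        (β + Finsupp.single i 1) = x i * (avoid S).indicator (mono x) β := by
    intro β
    have hmem : β + Finsupp.single i 1 ∈ ({α : I →₀ ℕ | α i = 0}ᶜ) := by
      change ¬ ((β + Finsupp.single i 1 : I →₀ ℕ) i = 0)
      rw [Finsupp.add_apply, Finsupp.single_eq_same]
      omega
    rw [Set.indicator_of_mem hmem]
    have hiff : β + Finsupp.single i 1 ∈ avoid S ↔ β ∈ avoid S := by
      simp only [avoid, Set.mem_ofPred_eq, Finset.disjoint_left]
      constructor
      · intro h j hj hjS
        refine h (a := j) ?_ hjS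
        rw [Finsupp.mem_support_iff, Finsupp.add_apply]
        rw [Finsupp.mem_support_iff] at hj
        omega
      · intro h j hj hjS
        by_cases hji : j = i
        · subst hji
          exact hi hjS
        · refine h (a := j) ?_ hjS
          rw [Finsupp.mem_support_iff, Finsupp.add_apply, Finsupp.single_eq_of_ne hji,
            add_zero] at hj
          exact Finsupp.mem_support_iff.mpr hj
    by_cases hβ : β ∈ avoid S
    · rw [Set.indicator_of_mem (hiff.mpr hβ), Set.indicator_of_mem hβ, mono_add, mono_single,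
        pow_one, mul_comm]
    · rw [Set.indicator_of_notMem (fun h => hβ (hiff.mp h)), Set.indicator_of_notMem hβ, mul_zero]
  have h3 : ∑' α, ({α : I →₀ ℕ | α i = 0}ᶜ).indicator ((avoid S).indicator (mono x)) α =
      x i * ∑' α, (avoid S).indicator (mono x) α := by
    rw [← hτ.tsum_eq hsupp, ← tsum_mul_left]
    exact tsum_congr hshift
  have h4 : ∑' α, (avoid S).indicator (mono x) α =
      ∑' α, (avoid (insert i S)).indicator (mono x) α +
        x i * ∑' α, (avoid S).indicator (mono x) α := by
    rw [← h3, ← h2, ← Summable.tsum_add (hgS.indicator _) (hgS.indicator _)]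
    exact tsum_congr h1
  linear_combination (-1 : ℂ) * h4

theorem tsum_avoid [DecidableEq I] (hsum : Summable (mono x)) (S : Finset I) :
    ∑' α, (avoid S).indicator (mono x) α = (∏ i ∈ S, (1 - x i)) * ∑' α, mono x α := by
  induction S using Finset.induction_on with
  | empty =>
    have h : avoid (∅ : Finset I) = Set.univ := by
      ext α
      simp [avoid]
    rw [h, Set.indicator_univ, Finset.prod_empty, one_mul]
  | insert i S hi ih =>
    rw [tsum_avoid_insert x hsum S i hi, ih, Finset.prod_insert hi, mul_assoc]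

/-- The sum of the monomials does not vanish. -/
theorem tsum_mono_ne_zero (hnorm : Summable (fun α => ‖mono x α‖)) : ∑' α, mono x α ≠ 0 := by
  classical
  have hsum : Summable (mono x) := hnorm.of_norm
  intro h0
  obtain ⟨T, hT⟩ := ((tendsto_tsum_compl_atTop_zero (fun α => ‖mono x α‖)).eventually
    (gt_mem_nhds (by norm_num : (0 : ℝ) < 1 / 2))).exists
  let S : Finset I := (T.erase 0).biUnion Finsupp.support
  have hS := tsum_avoid x hsum S
  rw [h0, mul_zero] at hS
  -- decompose the indicator
  have hdec : ∀ α, (avoid S).indicator (mono x) α =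
      ({0} : Set (I →₀ ℕ)).indicator (mono x) α +
        ((avoid S) \ {0}).indicator (mono x) α := by
    intro α
    by_cases hα0 : α = 0
    · subst hα0
      have h1 : (0 : I →₀ ℕ) ∈ avoid S := by simp [avoid]
      have h2 : (0 : I →₀ ℕ) ∉ (avoid S) \ {0} := fun h => h.2 rfl
      rw [Set.indicator_of_mem h1, Set.indicator_of_mem (Set.mem_singleton _),
        Set.indicator_of_notMem h2, add_zero]
    · have h1 : α ∉ ({0} : Set (I →₀ ℕ)) := hα0
      rw [Set.indicator_of_notMem h1, zero_add]
      by_cases hα : α ∈ avoid S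
      · rw [Set.indicator_of_mem hα,
          Set.indicator_of_mem (show α ∈ avoid S \ {0} from ⟨hα, hα0⟩)]
      · rw [Set.indicator_of_notMem hα, Set.indicator_of_notMem (fun h => hα h.1)]
  have hone : ∑' α, ({0} : Set (I →₀ ℕ)).indicator (mono x) α = 1 := by
    rw [tsum_eq_single 0]
    · rw [Set.indicator_of_mem (Set.mem_singleton _), mono_zero]
    · intro b hb
      exact Set.indicator_of_notMem (show b ∉ ({0} : Set (I →₀ ℕ)) from hb) _
  have hsplit : ∑' α, (avoid S).indicator (mono x) α =
      1 + ∑' α, ((avoid S) \ {0}).indicator (mono x) α := by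
    rw [← hone, ← Summable.tsum_add (hsum.indicator _) (hsum.indicator _)]
    exact tsum_congr hdec
  have hsub : (avoid S) \ {0} ⊆ {α : I →₀ ℕ | α ∉ T} := by
    rintro α ⟨hα, hα0⟩ hαT
    have hα0' : α ≠ 0 := hα0
    have hne : α.support.Nonempty := Finsupp.support_nonempty_iff.mpr hα0'
    obtain ⟨j, hj⟩ := hne
    have hjS : j ∈ S := Finset.mem_biUnion.mpr ⟨α, Finset.mem_erase.mpr ⟨hα0', hαT⟩, hj⟩
    exact (Finset.disjoint_left.mp hα) hj hjS
  have hbound : ‖∑' α, ((avoid S) \ {0}).indicator (mono x) α‖ < 1 / 2 := by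
    have hn1 : Summable (fun α => ‖((avoid S) \ {0}).indicator (mono x) α‖) := by
      have : (fun α => ‖((avoid S) \ {0}).indicator (mono x) α‖) =
          ((avoid S) \ {0}).indicator (fun α => ‖mono x α‖) := by
        funext α
        exact norm_indicator_eq_indicator_norm _ _
      rw [this]
      exact hnorm.indicator _
    refine lt_of_le_of_lt (norm_tsum_le_tsum_norm hn1) (lt_of_le_of_lt ?_ hT)
    have hts : ∑' (a : { x // x ∉ T }), ‖mono x ↑a‖ =
        ∑' α, ({α : I →₀ ℕ | α ∉ T}).indicator (fun α => ‖mono x α‖) α :=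
      tsum_subtype {α : I →₀ ℕ | α ∉ T} (fun α => ‖mono x α‖)
    rw [hts]
    refine Summable.tsum_le_tsum (fun α => ?_) hn1 (hnorm.indicator _)
    rw [norm_indicator_eq_indicator_norm]
    exact Set.indicator_le_indicator_of_subset hsub (fun _ => norm_nonneg _) α
  rw [hsplit] at hS
  have h5 : ∑' α, ((avoid S) \ {0}).indicator (mono x) α = -1 := by
    linear_combination hS
  rw [h5, norm_neg, norm_one] at hbound
  norm_num at hbound

end nonvanishing

section lseries

variable (N : I → ℕ)

theorem natCast_pow_cpow (n e : ℕ) (s : ℂ) : ((n ^ e : ℕ) : ℂ) ^ s = ((n : ℂ) ^ s) ^ e := by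
  induction e with
  | zero => simp
  | succ e ih =>
    rw [pow_succ, Nat.cast_mul, Complex.natCast_mul_natCast_cpow, ih, pow_succ]

theorem natCast_cpow_nrm (s : ℂ) (α : I →₀ ℕ) :
    ((α.prod (fun i e => N i ^ e) : ℕ) : ℂ) ^ s = mono (fun i => (N i : ℂ) ^ s) α := by
  induction α using Finsupp.induction_linear with
  | zero => simp [mono_zero]
  | add α β hα hβ =>
    rw [Finsupp.prod_add_index' (fun _ => pow_zero _) (fun _ _ _ => pow_add _ _ _),
      Nat.cast_mul, Complex.natCast_mul_natCast_cpow, hα, hβ, mono_add]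
  | single i e =>
    rw [Finsupp.prod_single_index (h := fun i e => N i ^ e) (pow_zero _), mono_single,
      natCast_pow_cpow]

/-- The Dirichlet series with coefficients the numbers of exponent vectors of given norm has
sum the sum of the monomials. -/
theorem hasSum_lseries_term (hN : ∀ i, 1 ≤ N i) (s : ℂ)
    (hsum : Summable (mono (fun i => (N i : ℂ) ^ (-s)))) :
    HasSum (LSeries.term
      (fun n => (Nat.card {α : I →₀ ℕ // α.prod (fun i e => N i ^ e) = n} : ℂ)) s)
      (∑' α, mono (fun i => (N i : ℂ) ^ (-s)) α) := by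
  have h := hsum.hasSum.tsum_fiberwise (fun α : I →₀ ℕ => α.prod (fun i e => N i ^ e))
  have e : (fun n : ℕ => ∑' (b : ↑((fun α : I →₀ ℕ => α.prod (fun i e => N i ^ e)) ⁻¹' {n})),
      mono (fun i => (N i : ℂ) ^ (-s)) b.1) =
      LSeries.term (fun n => (Nat.card {α : I →₀ ℕ // α.prod (fun i e => N i ^ e) = n} : ℂ)) s := by
    funext n
    rw [LSeries.term_def]
    split_ifs with hn
    · subst hn
      haveI : IsEmpty ↑((fun α : I →₀ ℕ => α.prod (fun i e => N i ^ e)) ⁻¹' {0}) :=
        ⟨fun ⟨α, hα⟩ => by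
          have h1 : α.prod (fun i e => N i ^ e) ≠ 0 :=
            Finset.prod_ne_zero_iff.mpr (fun i _ => pow_ne_zero _ (by have := hN i; omega))
          exact h1 hα⟩
      exact tsum_empty
    · have hconst : ∀ b : ↑((fun α : I →₀ ℕ => α.prod (fun i e => N i ^ e)) ⁻¹' {n}),
          mono (fun i => (N i : ℂ) ^ (-s)) b.1 = (n : ℂ) ^ (-s) := by
        rintro ⟨α, hα⟩
        rw [← natCast_cpow_nrm, show α.prod (fun i e => N i ^ e) = n from hα]
      rw [tsum_congr hconst, tsum_const, Complex.cpow_neg, nsmul_eq_mul, div_eq_mul_inv]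
      rfl
  rw [e] at h
  exact h

end lseries

/-- The abstract convergence and non-vanishing statement. -/
theorem abstract_zeta (N : I → ℕ) (hN : ∀ i, 2 ≤ N i) (r : ℝ) (hr0 : 0 ≤ r)
    (hsum : ∀ σ : ℝ, r < σ → Summable (fun i => (N i : ℝ) ^ (-σ))) :
    LSeries.abscissaOfAbsConv
        (fun n => (Nat.card {α : I →₀ ℕ // α.prod (fun i e => N i ^ e) = n} : ℂ)) ≤ (r : ℝ) ∧
      ∀ s : ℂ, r < s.re → LSeries
        (fun n => (Nat.card {α : I →₀ ℕ // α.prod (fun i e => N i ^ e) = n} : ℂ)) s ≠ 0 := by
  have key : ∀ s : ℂ, r < s.re →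
      Summable (fun α => ‖mono (fun i => (N i : ℂ) ^ (-s)) α‖) := by
    intro s hs
    have hσ : 0 < s.re := lt_of_le_of_lt hr0 hs
    have hnorm : ∀ i, ‖(N i : ℂ) ^ (-s)‖ = (N i : ℝ) ^ (-s.re) := by
      intro i
      rw [Complex.norm_natCast_cpow_of_pos (by have := hN i; omega), Complex.neg_re]
    have heq : (fun α => ‖mono (fun i => (N i : ℂ) ^ (-s)) α‖) =
        mono (fun i => (N i : ℝ) ^ (-s.re)) := by
      funext α
      simp only [mono, Finsupp.prod, norm_prod, norm_pow, hnorm]
    rw [heq]
    refine summable_mono_of_summable _ ((2 : ℝ) ^ (-s.re))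
      (Real.rpow_lt_one_of_one_lt_of_neg (by norm_num) (by linarith))
      (fun i => Real.rpow_nonneg (Nat.cast_nonneg _) _) (fun i => ?_) (hsum _ hs)
    refine Real.rpow_le_rpow_of_nonpos (by norm_num) ?_ (by linarith)
    exact_mod_cast hN i
  have hLS : ∀ s : ℂ, r < s.re → HasSum (LSeries.term
      (fun n => (Nat.card {α : I →₀ ℕ // α.prod (fun i e => N i ^ e) = n} : ℂ)) s)
      (∑' α, mono (fun i => (N i : ℂ) ^ (-s)) α) := fun s hs =>
    hasSum_lseries_term N (fun i => by have := hN i; omega) s (key s hs).of_norm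
  constructor
  · refine LSeries.abscissaOfAbsConv_le_of_forall_lt_LSeriesSummable (fun y hy => ?_)
    exact (hLS (y : ℂ) (by simpa using hy)).summable
  · intro s hs
    have h1 : LSeries (fun n => (Nat.card {α : I →₀ ℕ // α.prod (fun i e => N i ^ e) = n} : ℂ)) s =
        ∑' α, mono (fun i => (N i : ℂ) ^ (-s)) α := (hLS s hs).tsum_eq
    rw [h1]
    exact tsum_mono_ne_zero _ (key s hs)

end Groth.Agent.Lib.Helper6.ZetaBound
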