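import Mathlib
import Groth.Agent.Lib.Helper6.FFPts.RingCount

set_option autoImplicit false
set_option linter.unusedSectionVars false
set_option linter.unusedVariables false
set_option linter.unusedSimpArgs false
set_option linter.style.haveILetI false
set_option maxHeartbeats 800000
set_option synthInstance.maxHeartbeats 400000

/-!
# Generic Noether normalization over `ℤ`: the tensor product `ℚ ⊗[ℤ] A`, denominators, and
integrality of integer multiples over a polynomial subring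
-/

noncomputable section

universe u

open TensorProduct

namespace Groth.Agent.Lib.Helper6.ZetaBound

/-- Elements of `ℚ ⊗ A` have denominators. -/
theorem exists_smul_eq_tmul {A : Type u} [CommRing A] (x : ℚ ⊗[ℤ] A) :
    ∃ n : ℤ, n ≠ 0 ∧ ∃ a : A, n • x = (1 : ℚ) ⊗ₜ[ℤ] a := by
  haveI := IsLocalization.tensorProduct_isLocalizedModule (nonZeroDivisors ℤ) ℚ (M := A)
  obtain ⟨⟨a, c⟩, h⟩ := IsLocalizedModule.surj (nonZeroDivisors ℤ) (TensorProduct.mk ℤ ℚ A 1) x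
  refine ⟨c.1, nonZeroDivisors.ne_zero c.2, a, ?_⟩
  exact h

/-- The kernel of `A → ℚ ⊗ A` is the torsion. -/
theorem exists_smul_eq_zero_of_tmul_eq_zero {A : Type u} [CommRing A] (a : A)
    (h : (1 : ℚ) ⊗ₜ[ℤ] a = 0) : ∃ n : ℤ, n ≠ 0 ∧ n • a = 0 := by
  haveI := IsLocalization.tensorProduct_isLocalizedModule (nonZeroDivisors ℤ) ℚ (M := A)
  obtain ⟨c, hc⟩ :=
    (IsLocalizedModule.eq_zero_iff (nonZeroDivisors ℤ) (TensorProduct.mk ℤ ℚ A 1)).mp h
  exact ⟨c.1, nonZeroDivisors.ne_zero c.2, hc⟩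

/-- Abstract form: clearing denominators in an integrality statement. -/
theorem exists_smul_isIntegral_abstract {P PK A B : Type*} [CommRing P] [CommRing PK]
    [CommRing A] [CommRing B]
    [Algebra P PK] [Algebra PK B] [Algebra P A] [Algebra A B] [Algebra P B]
    [IsScalarTower P PK B] [IsScalarTower P A B]
    (M : Submonoid P) [IsLocalization M PK] [IsLocalization (Algebra.algebraMapSubmonoid A M) B]
    (x : A) (hx : IsIntegral PK (algebraMap A B x)) : ∃ m ∈ M, IsIntegral P (m • x) := by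
  obtain ⟨m₁, h1⟩ := IsIntegral.exists_multiple_integral_of_isLocalization M (algebraMap A B x) hx
  have e : m₁ • algebraMap A B x = algebraMap A B (m₁.1 • x) := by
    rw [Submonoid.smul_def, Algebra.smul_def, Algebra.smul_def, map_mul,
      ← IsScalarTower.algebraMap_apply]
  rw [e] at h1
  obtain ⟨m₂, hm₂, h2⟩ := IsLocalization.exists_isIntegral_smul_of_isIntegral_map M h1
  exact ⟨m₂ * m₁.1, M.mul_mem hm₂ m₁.2, by rw [mul_smul]; exact h2⟩

/-- If `ℚ ⊗ A` is integral over `ℚ[b₁, …, b_s]` then every element of `A` has a nonzero integer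
multiple which is integral over `ℤ[b₁, …, b_s]`. -/
theorem exists_int_smul_isIntegralElem {A : Type u} [CommRing A] (s : ℕ) (b : Fin s → A)
    (hint : (MvPolynomial.aeval (fun i => (1 : ℚ) ⊗ₜ[ℤ] b i) :
      MvPolynomial (Fin s) ℚ →ₐ[ℚ] ℚ ⊗[ℤ] A).toRingHom.IsIntegral) (x : A) :
    ∃ n : ℤ, n ≠ 0 ∧
      (MvPolynomial.aeval b : MvPolynomial (Fin s) ℤ →ₐ[ℤ] A).toRingHom.IsIntegralElem
        (n • x) := by
  letI iPPK : Algebra (MvPolynomial (Fin s) ℤ) (MvPolynomial (Fin s) ℚ) :=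
    MvPolynomial.algebraMvPolynomial
  letI iPKB : Algebra (MvPolynomial (Fin s) ℚ) (ℚ ⊗[ℤ] A) :=
    (MvPolynomial.aeval (fun i => (1 : ℚ) ⊗ₜ[ℤ] b i) :
      MvPolynomial (Fin s) ℚ →ₐ[ℚ] ℚ ⊗[ℤ] A).toRingHom.toAlgebra
  letI iPA : Algebra (MvPolynomial (Fin s) ℤ) A :=
    (MvPolynomial.aeval b : MvPolynomial (Fin s) ℤ →ₐ[ℤ] A).toRingHom.toAlgebra
  letI iAB : Algebra A (ℚ ⊗[ℤ] A) := Algebra.TensorProduct.rightAlgebra
  letI iPB : Algebra (MvPolynomial (Fin s) ℤ) (ℚ ⊗[ℤ] A) :=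
    ((algebraMap (MvPolynomial (Fin s) ℚ) (ℚ ⊗[ℤ] A)).comp
      (algebraMap (MvPolynomial (Fin s) ℤ) (MvPolynomial (Fin s) ℚ))).toAlgebra
  haveI t1 : IsScalarTower (MvPolynomial (Fin s) ℤ) (MvPolynomial (Fin s) ℚ) (ℚ ⊗[ℤ] A) :=
    IsScalarTower.of_algebraMap_eq (fun _ => rfl)
  have hcomp : (algebraMap (MvPolynomial (Fin s) ℤ) (ℚ ⊗[ℤ] A)) =
      (algebraMap A (ℚ ⊗[ℤ] A)).comp (algebraMap (MvPolynomial (Fin s) ℤ) A) := by
    refine MvPolynomial.ringHom_ext ?_ ?_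
    · intro n
      have := RingHom.ext_int
        ((algebraMap (MvPolynomial (Fin s) ℤ) (ℚ ⊗[ℤ] A)).comp MvPolynomial.C)
        (((algebraMap A (ℚ ⊗[ℤ] A)).comp (algebraMap (MvPolynomial (Fin s) ℤ) A)).comp
          MvPolynomial.C)
      exact RingHom.congr_fun this n
    · intro i
      change (MvPolynomial.aeval (fun i => (1 : ℚ) ⊗ₜ[ℤ] b i))
          (MvPolynomial.map (algebraMap ℤ ℚ) (MvPolynomial.X i)) =
        Algebra.TensorProduct.includeRight (MvPolynomial.aeval b (MvPolynomial.X i))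
      rw [MvPolynomial.map_X, MvPolynomial.aeval_X, MvPolynomial.aeval_X,
        Algebra.TensorProduct.includeRight_apply]
  haveI t2 : IsScalarTower (MvPolynomial (Fin s) ℤ) A (ℚ ⊗[ℤ] A) :=
    IsScalarTower.of_algebraMap_eq (fun q => RingHom.congr_fun hcomp q)
  haveI l1 : IsLocalization ((nonZeroDivisors ℤ).map (MvPolynomial.C (σ := Fin s)))
      (MvPolynomial (Fin s) ℚ) := MvPolynomial.isLocalization (nonZeroDivisors ℤ) ℚ
  have hsub : Algebra.algebraMapSubmonoid A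
      ((nonZeroDivisors ℤ).map (MvPolynomial.C (σ := Fin s))) =
      Algebra.algebraMapSubmonoid A (nonZeroDivisors ℤ) := by
    ext y
    constructor
    · rintro ⟨q, ⟨n, hn, rfl⟩, rfl⟩
      refine ⟨n, hn, ?_⟩
      change algebraMap ℤ A n = MvPolynomial.aeval b (MvPolynomial.C n)
      rw [MvPolynomial.aeval_C]
    · rintro ⟨n, hn, rfl⟩
      refine ⟨MvPolynomial.C n, ⟨n, hn, rfl⟩, ?_⟩
      change MvPolynomial.aeval b (MvPolynomial.C n) = algebraMap ℤ A n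
      rw [MvPolynomial.aeval_C]
  haveI l2 : IsLocalization (Algebra.algebraMapSubmonoid A
      ((nonZeroDivisors ℤ).map (MvPolynomial.C (σ := Fin s)))) (ℚ ⊗[ℤ] A) := by
    rw [hsub]
    exact IsLocalization.tensorRight ℚ (nonZeroDivisors ℤ)
  obtain ⟨m, ⟨n, hn, rfl⟩, hm⟩ := exists_smul_isIntegral_abstract
    (P := MvPolynomial (Fin s) ℤ) (PK := MvPolynomial (Fin s) ℚ) (A := A) (B := ℚ ⊗[ℤ] A)
    ((nonZeroDivisors ℤ).map (MvPolynomial.C (σ := Fin s))) x (hint _)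
  refine ⟨n, nonZeroDivisors.ne_zero hn, ?_⟩
  have e : (MvPolynomial.C n : MvPolynomial (Fin s) ℤ) • x = n • x := by
    rw [Algebra.smul_def]
    change MvPolynomial.aeval b (MvPolynomial.C n) * x = n • x
    rw [MvPolynomial.aeval_C, ← Algebra.smul_def]
  rw [← e]
  exact hm

/-- Noether normalization of `ℚ ⊗ A` with the parameters taken in `A`. -/
theorem exists_noether_tmul (A : Type u) [CommRing A] [Algebra.FiniteType ℤ A]
    [Nontrivial (ℚ ⊗[ℤ] A)] :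
    ∃ (s : ℕ) (b : Fin s → A), (s : WithBot ℕ∞) ≤ ringKrullDim (ℚ ⊗[ℤ] A) ∧
      (MvPolynomial.aeval (fun i => (1 : ℚ) ⊗ₜ[ℤ] b i) :
        MvPolynomial (Fin s) ℚ →ₐ[ℚ] ℚ ⊗[ℤ] A).toRingHom.IsIntegral := by
  obtain ⟨s, g, hinj, hgint⟩ := exists_integral_inj_algHom_of_fg ℚ (ℚ ⊗[ℤ] A)
  have hdim : (s : WithBot ℕ∞) ≤ ringKrullDim (ℚ ⊗[ℤ] A) := by
    letI := g.toRingHom.toAlgebra
    haveI : Algebra.IsIntegral (MvPolynomial (Fin s) ℚ) (ℚ ⊗[ℤ] A) := ⟨hgint⟩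
    have h := Groth.Agent.Lib.Helper6.FFPts.ringKrullDim_le_of_integral_injective
      (R := MvPolynomial (Fin s) ℚ) (S := ℚ ⊗[ℤ] A) hinj
    rwa [MvPolynomial.ringKrullDim_of_isNoetherianRing, ringKrullDim_eq_zero_of_field,
      zero_add, Nat.card_fin] at h
  have hex : ∀ i : Fin s, ∃ n : ℤ, n ≠ 0 ∧ ∃ a : A,
      n • g (MvPolynomial.X i) = (1 : ℚ) ⊗ₜ[ℤ] a := fun i => exists_smul_eq_tmul _
  choose d hd b hb using hex
  refine ⟨s, b, hdim, ?_⟩
  let θ : MvPolynomial (Fin s) ℚ →ₐ[ℚ] MvPolynomial (Fin s) ℚ :=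
    MvPolynomial.aeval (fun i => MvPolynomial.C ((d i : ℚ)⁻¹) * MvPolynomial.X i)
  have hcomp : g = (MvPolynomial.aeval (fun i => (1 : ℚ) ⊗ₜ[ℤ] b i) :
      MvPolynomial (Fin s) ℚ →ₐ[ℚ] ℚ ⊗[ℤ] A).comp θ := by
    apply MvPolynomial.algHom_ext
    intro i
    rw [AlgHom.comp_apply]
    change g (MvPolynomial.X i) = MvPolynomial.aeval (fun i => (1 : ℚ) ⊗ₜ[ℤ] b i)
      (MvPolynomial.aeval (fun i => MvPolynomial.C ((d i : ℚ)⁻¹) * MvPolynomial.X i)
        (MvPolynomial.X i))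
    rw [MvPolynomial.aeval_X, map_mul, MvPolynomial.aeval_X, MvPolynomial.aeval_C,
      ← Algebra.smul_def, ← hb i, ← Int.cast_smul_eq_zsmul ℚ (d i), inv_smul_smul₀]
    exact_mod_cast hd i
  have h1 : g.toRingHom = (MvPolynomial.aeval (fun i => (1 : ℚ) ⊗ₜ[ℤ] b i) :
      MvPolynomial (Fin s) ℚ →ₐ[ℚ] ℚ ⊗[ℤ] A).toRingHom.comp θ.toRingHom :=
    RingHom.ext fun x => AlgHom.congr_fun hcomp x
  have h2 : g.toRingHom.IsIntegral := hgint
  rw [h1] at h2
  exact RingHom.IsIntegral.tower_top _ _ h2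

end Groth.Agent.Lib.Helper6.ZetaBound
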