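import Mathlib
import Groth.Agent.Lib.Helper6.FFPts.RingCount
import Groth.Agent.Lib.Helper6.ZetaBound.ZB1
import Groth.Agent.Lib.Helper6.FTInt

set_option autoImplicit false
set_option linter.unusedSectionVars false
set_option linter.unusedVariables false
set_option linter.unusedSimpArgs false
set_option linter.style.haveILetI false
set_option maxHeartbeats 800000
set_option synthInstance.maxHeartbeats 400000

/-!
# Counting points of a finite type `ℤ`-algebra in finite fields of large characteristic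
-/

noncomputable section

universe u

open TensorProduct

namespace Groth.Agent.Lib.Helper6.ZetaBound

/-- `dim A ≥ dim (ℚ ⊗ A) + 1` for a finite type `ℤ`-algebra `A`. -/
theorem succ_le_ringKrullDim (A : Type u) [CommRing A] [Algebra.FiniteType ℤ A] (s : ℕ)
    (hs : (s : WithBot ℕ∞) ≤ ringKrullDim (ℚ ⊗[ℤ] A)) :
    ((s + 1 : ℕ) : WithBot ℕ∞) ≤ ringKrullDim A := by
  letI iAB : Algebra A (ℚ ⊗[ℤ] A) := Algebra.TensorProduct.rightAlgebra
  haveI : IsLocalization (Algebra.algebraMapSubmonoid A (nonZeroDivisors ℤ)) (ℚ ⊗[ℤ] A) :=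
    IsLocalization.tensorRight ℚ (nonZeroDivisors ℤ)
  obtain ⟨l, hl⟩ := Order.le_krullDim_iff.mp hs
  have hinj := PrimeSpectrum.localization_comap_injective (ℚ ⊗[ℤ] A)
    (Algebra.algebraMapSubmonoid A (nonZeroDivisors ℤ))
  have hmono : Monotone (PrimeSpectrum.comap (algebraMap A (ℚ ⊗[ℤ] A))) :=
    fun P Q hPQ => Ideal.comap_mono hPQ
  have hstrict : StrictMono (PrimeSpectrum.comap (algebraMap A (ℚ ⊗[ℤ] A))) :=
    hmono.strictMono_of_injective hinj
  obtain ⟨l', hl'len, hl'last⟩ : ∃ l' : LTSeries (PrimeSpectrum A), l'.length = s ∧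
      RelSeries.last l' = PrimeSpectrum.comap (algebraMap A (ℚ ⊗[ℤ] A)) (RelSeries.last l) :=
    ⟨l.map _ hstrict, by rw [LTSeries.map_length, hl], LTSeries.last_map _ _ _⟩
  have hunit : ∀ n : ℤ, n ≠ 0 → IsUnit (algebraMap A (ℚ ⊗[ℤ] A) (n : A)) := by
    intro n hn
    have h1 : algebraMap A (ℚ ⊗[ℤ] A) (n : A) = algebraMap ℚ (ℚ ⊗[ℤ] A) (n : ℚ) := by
      rw [map_intCast, map_intCast]
    rw [h1]
    exact (isUnit_iff_ne_zero.mpr (Int.cast_ne_zero.mpr hn)).map _
  have hnotmax : ¬ (RelSeries.last l').asIdeal.IsMaximal := by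
    intro hmax
    letI := Ideal.Quotient.field (RelSeries.last l').asIdeal
    haveI : Algebra.FiniteType ℤ (A ⧸ (RelSeries.last l').asIdeal) := by
      rw [← RingHom.finiteType_algebraMap,
        RingHom.ext_int (algebraMap ℤ (A ⧸ (RelSeries.last l').asIdeal))
          ((Ideal.Quotient.mk (RelSeries.last l').asIdeal).comp (algebraMap ℤ A))]
      exact (RingHom.FiniteType.of_surjective _ Ideal.Quotient.mk_surjective).comp
        (RingHom.finiteType_algebraMap.mpr inferInstance)
    haveI := Groth.Agent.Lib.Helper6.FTInt.isJacobsonRing_int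
    haveI hfin : Module.Finite ℤ (A ⧸ (RelSeries.last l').asIdeal) :=
      finite_of_finite_type_of_isJacobsonRing ℤ _
    haveI : Algebra.IsIntegral ℤ (A ⧸ (RelSeries.last l').asIdeal) :=
      Algebra.IsIntegral.of_finite _ _
    have hinj2 : Function.Injective (algebraMap ℤ (A ⧸ (RelSeries.last l').asIdeal)) := by
      rw [injective_iff_map_eq_zero]
      intro n hn
      by_contra hne
      have h1 : (n : A) ∈ (RelSeries.last l').asIdeal := by
        rw [← Ideal.Quotient.eq_zero_iff_mem, map_intCast]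
        rw [eq_intCast] at hn
        exact hn
      rw [hl'last] at h1
      have h2 : algebraMap A (ℚ ⊗[ℤ] A) (n : A) ∈ (RelSeries.last l).asIdeal := h1
      exact (RelSeries.last l).2.ne_top (Ideal.eq_top_of_isUnit_mem _ h2 (hunit n hne))
    exact Int.not_isField (isField_of_isIntegral_of_isField hinj2 (Field.toIsField _))
  obtain ⟨M, hM, hle⟩ := Ideal.exists_le_maximal (RelSeries.last l').asIdeal
    (RelSeries.last l').2.ne_top
  have hlt : RelSeries.last l' < (⟨M, hM.isPrime⟩ : PrimeSpectrum A) := by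
    refine lt_of_le_of_ne hle ?_
    intro h
    apply hnotmax
    rw [h]
    exact hM
  have hfinal := Order.LTSeries.length_le_krullDim (l'.snoc ⟨M, hM.isPrime⟩ hlt)
  rw [RelSeries.snoc_length, hl'len] at hfinal
  exact hfinal

/-- Counting ring maps to a finite field: if `A` is generated by `S` and integer multiples of the
elements of `S` are integral over the image of a polynomial ring in `s` variables, then the number
of maps to a finite field in which these integers are invertible is `O(q ^ s)`. -/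
theorem card_hom_le_of_isIntegralElem {A : Type u} [CommRing A] (s : ℕ)
    (h : MvPolynomial (Fin s) ℤ →+* A) (S : Finset A) (hS : Algebra.adjoin ℤ (S : Set A) = ⊤)
    (n : A → ℤ) (hn : ∀ x ∈ S, h.IsIntegralElem (n x • x)) :
    ∃ t : ℕ, ∀ (F : Type u) [Field F] [Finite F], (∀ x ∈ S, ((n x : ℤ) : F) ≠ 0) →
      Nat.card (A →+* F) ≤ t * Nat.card F ^ s := by
  classical
  letI := h.toAlgebra
  let A₀ : Subalgebra (MvPolynomial (Fin s) ℤ) A :=
    Algebra.adjoin (MvPolynomial (Fin s) ℤ) ((fun x => n x • x) '' (S : Set A))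
  have hfg : (Subalgebra.toSubmodule A₀).FG :=
    fg_adjoin_of_finite (S.finite_toSet.image _) (by
      rintro _ ⟨x, hx, rfl⟩
      exact hn x hx)
  haveI : Module.Finite (MvPolynomial (Fin s) ℤ) A₀ := Module.Finite.iff_fg.mpr hfg
  obtain ⟨t, ht⟩ := (Module.Finite.fg_top : (⊤ : Submodule (MvPolynomial (Fin s) ℤ) A₀).FG)
  have ht' : ∀ a : A₀, ∃ c : t → MvPolynomial (Fin s) ℤ,
      a = ∑ x : t, (algebraMap (MvPolynomial (Fin s) ℤ) A₀) (c x) * x.1 := by
    intro a
    have ha : a ∈ Submodule.span (MvPolynomial (Fin s) ℤ) (t : Set A₀) := by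
      rw [ht]; trivial
    obtain ⟨c, hc⟩ := Submodule.mem_span_finset'.mp ha
    refine ⟨c, ?_⟩
    rw [← hc]
    refine Finset.sum_congr rfl fun x _ => ?_
    rw [Algebra.smul_def]
  refine ⟨t.card, fun F _ _ hF => ?_⟩
  obtain ⟨hfin, hcard⟩ := Groth.Agent.Lib.Helper6.FFPts.hom_card_le (k := ℤ) (A := A₀) (L := F)
    (Int.castRingHom A₀) s (algebraMap (MvPolynomial (Fin s) ℤ) A₀) (RingHom.ext_int _ _) t ht'
    (Int.castRingHom F)
  haveI := hfin
  refine le_trans (Nat.card_le_card_of_injective (fun φ : A →+* F =>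
    (⟨φ.comp A₀.val.toRingHom, RingHom.ext_int _ _⟩ :
      { φ : A₀ →+* F // φ.comp (Int.castRingHom A₀) = Int.castRingHom F })) ?_) hcard
  intro φ φ' hφ
  have hres : ∀ a : A₀, φ a.1 = φ' a.1 := fun a => by
    have := congrArg (fun z : { φ : A₀ →+* F //
      φ.comp (Int.castRingHom A₀) = Int.castRingHom F } => z.1 a) hφ
    exact this
  have hx : ∀ x ∈ (S : Set A), φ x = φ' x := by
    intro x hx
    have hmem : n x • x ∈ A₀ := Algebra.subset_adjoin ⟨x, hx, rfl⟩
    have h1 : φ (n x • x) = φ' (n x • x) := hres ⟨n x • x, hmem⟩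
    rw [map_zsmul, map_zsmul, zsmul_eq_mul, zsmul_eq_mul] at h1
    exact mul_left_cancel₀ (hF x hx) h1
  have hφφ' : φ.toIntAlgHom = φ'.toIntAlgHom :=
    AlgHom.ext_of_adjoin_eq_top hS (fun x hx' => hx x hx')
  ext a
  exact congrArg (fun χ : A →ₐ[ℤ] F => χ a) hφφ'

/-- For a finite type `ℤ`-algebra of dimension `≤ r`, the number of points in a finite field with
`q` elements of large characteristic is `O(q ^ (r - 1))`. -/
theorem good_primes (A : Type u) [CommRing A] [Algebra.FiniteType ℤ A] (r : ℕ)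
    (hr : ringKrullDim A ≤ r) :
    ∃ N p₀ : ℕ, ∀ p : ℕ, p₀ ≤ p → ∀ (F : Type u) [Field F] [Finite F] [CharP F p],
      Nat.card (A →+* F) * Nat.card F ≤ N * Nat.card F ^ r := by
  classical
  rcases subsingleton_or_nontrivial (ℚ ⊗[ℤ] A) with hsub | hnt
  · obtain ⟨n, hn0, hn⟩ := exists_smul_eq_zero_of_tmul_eq_zero (1 : A) (Subsingleton.elim _ _)
    refine ⟨0, n.natAbs + 1, fun p hp F _ _ _ => ?_⟩
    haveI : IsEmpty (A →+* F) := ⟨fun φ => by
      have h1 : ((n : ℤ) : F) = 0 := by
        have h0 := congrArg φ hn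
        rwa [map_zsmul, map_one, map_zero, zsmul_eq_mul, mul_one] at h0
      have h2 := (CharP.intCast_eq_zero_iff F p n).mp h1
      have h3 : p ∣ n.natAbs := Int.natCast_dvd.mp h2
      have h4 := Nat.le_of_dvd (Int.natAbs_pos.mpr hn0) h3
      omega⟩
    simp
  · obtain ⟨s, b, hdim, hint⟩ := exists_noether_tmul A
    have hs1 := (succ_le_ringKrullDim A s hdim).trans hr
    have hsr : s + 1 ≤ r := by exact_mod_cast hs1
    obtain ⟨S, hS⟩ := (Algebra.FiniteType.out : (⊤ : Subalgebra ℤ A).FG)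
    have hex : ∀ x : A, ∃ n : ℤ, n ≠ 0 ∧
        (MvPolynomial.aeval b : MvPolynomial (Fin s) ℤ →ₐ[ℤ] A).toRingHom.IsIntegralElem
          (n • x) := fun x => exists_int_smul_isIntegralElem s b hint x
    choose n hn0 hn using hex
    obtain ⟨t, ht⟩ := card_hom_le_of_isIntegralElem s
      (MvPolynomial.aeval b : MvPolynomial (Fin s) ℤ →ₐ[ℤ] A).toRingHom S hS n (fun x _ => hn x)
    refine ⟨t, (∏ x ∈ S, n x).natAbs + 1, fun p hp F _ _ _ => ?_⟩
    have hF : ∀ x ∈ S, ((n x : ℤ) : F) ≠ 0 := by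
      intro x hx h0
      have h2 := (CharP.intCast_eq_zero_iff F p (n x)).mp h0
      have h3 : (p : ℤ) ∣ ∏ x ∈ S, n x := h2.trans (Finset.dvd_prod_of_mem n hx)
      have h4 : p ∣ (∏ x ∈ S, n x).natAbs := Int.natCast_dvd.mp h3
      have hne : (∏ x ∈ S, n x) ≠ 0 := Finset.prod_ne_zero_iff.mpr (fun x _ => hn0 x)
      have h5 := Nat.le_of_dvd (Int.natAbs_pos.mpr hne) h4
      omega
    have h1 := ht F hF
    calc Nat.card (A →+* F) * Nat.card F ≤ (t * Nat.card F ^ s) * Nat.card F :=
          Nat.mul_le_mul_right _ h1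
      _ = t * Nat.card F ^ (s + 1) := by rw [pow_succ, mul_assoc]
      _ ≤ t * Nat.card F ^ r := Nat.mul_le_mul_left _ (Nat.pow_le_pow_right Nat.card_pos hsr)

end Groth.Agent.Lib.Helper6.ZetaBound
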