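import Mathlib
import Groth.Agent.Lib.Helper6.FFPts.RingCount
import Groth.Agent.Lib.Helper6.FFPts.Finite
import Groth.Agent.Lib.Helper6.ZetaBound.ZB2

set_option autoImplicit false
set_option linter.unusedSectionVars false
set_option linter.unusedVariables false
set_option linter.unusedSimpArgs false
set_option linter.style.haveILetI false
set_option maxHeartbeats 800000
set_option synthInstance.maxHeartbeats 400000

/-!
# Counting points of a finite type `ℤ`-algebra in finite fields: all characteristics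
-/

noncomputable section

universe u v w

namespace Groth.Agent.Lib.Helper6.ZetaBound

/-- Universe polymorphic version of `FFPts.exists_bound`. -/
theorem exists_bound' {k : Type v} {A : Type u} [Field k] [CommRing A] (ψ : k →+* A)
    (hψ : ψ.FiniteType) (r : ℕ) (hr : ringKrullDim A ≤ r) :
    ∃ N : ℕ, ∀ (L : Type w) [Field L] [Finite L] (a : k →+* L),
      Nat.card { φ : A →+* L // φ.comp ψ = a } ≤ N * Nat.card L ^ r := by
  rcases subsingleton_or_nontrivial A with hA | hA
  · refine ⟨0, fun L _ _ a => ?_⟩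
    haveI : IsEmpty { φ : A →+* L // φ.comp ψ = a } := ⟨fun φ => by
      have h1 : φ.1 1 = 1 := map_one _
      have h0 : φ.1 0 = 0 := map_zero _
      rw [Subsingleton.elim (1 : A) 0, h0] at h1
      exact zero_ne_one h1⟩
    simp
  · letI := ψ.toAlgebra
    haveI : Algebra.FiniteType k A := hψ
    obtain ⟨s, g, hinj, hfin⟩ := exists_finite_inj_algHom_of_fg k A
    letI alg : Algebra (MvPolynomial (Fin s) k) A := g.toRingHom.toAlgebra
    haveI : Module.Finite (MvPolynomial (Fin s) k) A := hfin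
    haveI : Algebra.IsIntegral (MvPolynomial (Fin s) k) A := Algebra.IsIntegral.of_finite _ _
    have hdim : ringKrullDim (MvPolynomial (Fin s) k) ≤ ringKrullDim A :=
      Groth.Agent.Lib.Helper6.FFPts.ringKrullDim_le_of_integral_injective hinj
    have hs : s ≤ r := by
      rw [MvPolynomial.ringKrullDim_of_isNoetherianRing, ringKrullDim_eq_zero_of_field,
        zero_add, Nat.card_fin] at hdim
      have := hdim.trans hr
      exact_mod_cast this
    obtain ⟨t, ht⟩ := (Module.Finite.fg_top : (⊤ : Submodule (MvPolynomial (Fin s) k) A).FG)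
    have ht' : ∀ a : A, ∃ c : t → MvPolynomial (Fin s) k,
        a = ∑ x : t, g.toRingHom (c x) * x.1 := by
      intro a
      have ha : a ∈ Submodule.span (MvPolynomial (Fin s) k) (t : Set A) := by
        rw [ht]; trivial
      obtain ⟨c, hc⟩ := Submodule.mem_span_finset'.mp ha
      exact ⟨c, hc.symm⟩
    have hg : g.toRingHom.comp MvPolynomial.C = ψ := by
      ext x
      exact g.commutes x
    refine ⟨t.card, fun L _ _ a => ?_⟩
    obtain ⟨-, h2⟩ := Groth.Agent.Lib.Helper6.FFPts.hom_card_le (L := L) ψ s g.toRingHom hg t ht' a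
    refine h2.trans (Nat.mul_le_mul_left _ ?_)
    exact Nat.pow_le_pow_right Nat.card_pos hs

/-- For a fixed prime `p`, the number of points of a finite type `ℤ`-algebra of dimension `≤ r`
in a field with `q` elements of characteristic `p` is `O(q ^ r)`. -/
theorem bad_prime (A : Type u) [CommRing A] [Algebra.FiniteType ℤ A] (r : ℕ)
    (hr : ringKrullDim A ≤ r) (p : ℕ) [Fact p.Prime] :
    ∃ N : ℕ, ∀ (F : Type u) [Field F] [Finite F] [CharP F p],
      Nat.card (A →+* F) ≤ N * Nat.card F ^ r := by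
  have hker : ∀ a ∈ Ideal.span {(p : ℤ)},
      ((Ideal.Quotient.mk (Ideal.span {(p : A)})).comp (Int.castRingHom A)) a = 0 := by
    intro a ha
    obtain ⟨c, rfl⟩ := Ideal.mem_span_singleton'.mp ha
    rw [RingHom.comp_apply, Ideal.Quotient.eq_zero_iff_mem, map_mul]
    refine Ideal.mul_mem_left _ _ ?_
    have h1 : Int.castRingHom A ((p : ℕ) : ℤ) = (p : A) := by simp
    rw [h1]
    exact Ideal.subset_span rfl
  let ψ : ZMod p →+* A ⧸ Ideal.span {(p : A)} :=
    (Ideal.Quotient.lift (Ideal.span {(p : ℤ)})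
      ((Ideal.Quotient.mk (Ideal.span {(p : A)})).comp (Int.castRingHom A)) hker).comp
      (Int.quotientSpanNatEquivZMod p).symm.toRingHom
  have hψ : ψ.FiniteType := by
    have h1 : (ψ.comp (Int.castRingHom (ZMod p))).FiniteType := by
      rw [RingHom.ext_int (ψ.comp (Int.castRingHom (ZMod p)))
        ((Ideal.Quotient.mk (Ideal.span {(p : A)})).comp (algebraMap ℤ A))]
      exact (RingHom.FiniteType.of_surjective _ Ideal.Quotient.mk_surjective).comp
        (RingHom.finiteType_algebraMap.mpr inferInstance)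
    exact RingHom.FiniteType.of_comp_finiteType h1
  obtain ⟨N, hN⟩ := exists_bound'.{u, 0, u} ψ hψ r
    ((ringKrullDim_quotient_le (Ideal.span {(p : A)})).trans hr)
  refine ⟨N, fun F _ _ _ => ?_⟩
  have hp0 : ((p : ℕ) : F) = 0 := CharP.cast_eq_zero F p
  let a : ZMod p →+* F := ZMod.castHom (dvd_refl p) F
  haveI := Groth.Agent.Lib.Helper6.FFPts.finite_ringHom_of_finiteType (B := F) ψ hψ a
  have hlift : ∀ φ : A →+* F, ∀ x ∈ Ideal.span {(p : A)}, φ x = 0 := by
    intro φ x hx
    obtain ⟨c, rfl⟩ := Ideal.mem_span_singleton'.mp hx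
    rw [map_mul, map_natCast, hp0, mul_zero]
  refine le_trans (Nat.card_le_card_of_injective (fun φ : A →+* F =>
    (⟨Ideal.Quotient.lift (Ideal.span {(p : A)}) φ (hlift φ), Subsingleton.elim _ _⟩ :
      { φ : A ⧸ Ideal.span {(p : A)} →+* F // φ.comp ψ = a })) ?_) (hN F a)
  intro φ φ' h
  have h1 : Ideal.Quotient.lift (Ideal.span {(p : A)}) φ (hlift φ) =
      Ideal.Quotient.lift (Ideal.span {(p : A)}) φ' (hlift φ') := congrArg Subtype.val h
  ext x
  have h2 := congrArg (fun χ : A ⧸ Ideal.span {(p : A)} →+* F =>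
    χ (Ideal.Quotient.mk (Ideal.span {(p : A)}) x)) h1
  simpa using h2

/-- The ring-level bound. -/
theorem ring_bound (A : Type u) [CommRing A] [Algebra.FiniteType ℤ A] (r : ℕ)
    (hr : ringKrullDim A ≤ r) :
    ∃ N p₀ : ℕ, ∀ p : ℕ, p.Prime → ∀ (F : Type u) [Field F] [Finite F] [CharP F p],
      (p₀ ≤ p → Nat.card (A →+* F) * Nat.card F ≤ N * Nat.card F ^ r) ∧
        Nat.card (A →+* F) ≤ N * Nat.card F ^ r := by
  classical
  obtain ⟨N₁, p₀, h1⟩ := good_primes A r hr
  have h2 : ∀ p : ℕ, ∃ N : ℕ, p.Prime → ∀ (F : Type u) [Field F] [Finite F] [CharP F p],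
      Nat.card (A →+* F) ≤ N * Nat.card F ^ r := by
    intro p
    by_cases hp : p.Prime
    · haveI := Fact.mk hp
      obtain ⟨N, hN⟩ := bad_prime A r hr p
      exact ⟨N, fun _ => hN⟩
    · exact ⟨0, fun h => absurd h hp⟩
  choose N₂ hN₂ using h2
  refine ⟨N₁ + ∑ p ∈ Finset.range p₀, N₂ p, p₀, fun p hp F _ _ _ => ?_⟩
  have hgood : p₀ ≤ p → Nat.card (A →+* F) * Nat.card F ≤
      (N₁ + ∑ p ∈ Finset.range p₀, N₂ p) * Nat.card F ^ r := fun hle =>
    (h1 p hle F).trans (Nat.mul_le_mul_right _ (Nat.le_add_right _ _))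
  refine ⟨hgood, ?_⟩
  rcases le_or_gt p₀ p with hle | hlt
  · exact (Nat.le_mul_of_pos_right _ Nat.card_pos).trans (hgood hle)
  · refine (hN₂ p hp F).trans (Nat.mul_le_mul_right _ ?_)
    exact (Finset.single_le_sum (f := N₂) (fun _ _ => Nat.zero_le _)
      (Finset.mem_range.mpr hlt)).trans (Nat.le_add_left _ _)

end Groth.Agent.Lib.Helper6.ZetaBound
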