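import Mathlib
import Groth.Agent.Lib.Helper6.FFPts.Bound
import Groth.Agent.Lib.Helper6.FTInt
import Groth.Agent.Lib.Helper6.ZetaBound.ZB3

set_option autoImplicit false
set_option linter.unusedSectionVars false
set_option linter.unusedVariables false
set_option linter.unusedSimpArgs false
set_option linter.style.haveILetI false
set_option maxHeartbeats 800000
set_option synthInstance.maxHeartbeats 400000

/-!
# The number of points of an arithmetic scheme in finite fields
-/

noncomputable section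

universe u

open CategoryTheory AlgebraicGeometry

namespace Groth.Agent.Lib.Helper6.ZetaBound

variable {X : Scheme.{u}}

/-- The morphism attached to a ring map out of the sections of an affine open. -/
def openMap (F : Type u) [Field F] (U : X.affineOpens) (φ : Γ(X, U) →+* F) :
    Spec (CommRingCat.of F) ⟶ X :=
  Spec.map (CommRingCat.ofHom φ) ≫ U.2.fromSpec

theorem mem_range_openMap (F : Type u) [Field F] (U : X.affineOpens)
    (g : Spec (CommRingCat.of F) ⟶ X)
    (hg : g (IsLocalRing.closedPoint F) ∈ (U : X.Opens)) : g ∈ Set.range (openMap F U) := by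
  have hr : Set.range g ⊆ Set.range U.2.fromSpec := by
    rintro _ ⟨z, rfl⟩
    rw [U.2.range_fromSpec]
    have hz : z = IsLocalRing.closedPoint F := by
      haveI : Subsingleton (PrimeSpectrum F) := inferInstance
      exact Subsingleton.elim (α := PrimeSpectrum F) _ _
    rw [hz]
    exact hg
  haveI := U.2.isOpenImmersion_fromSpec
  let l : Spec (CommRingCat.of F) ⟶ Spec Γ(X, U) := IsOpenImmersion.lift U.2.fromSpec g hr
  have hl : l ≫ U.2.fromSpec = g := IsOpenImmersion.lift_fac _ _ _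
  refine ⟨(Spec.preimage l).hom, ?_⟩
  change Spec.map (CommRingCat.ofHom (Spec.preimage l).hom) ≫ U.2.fromSpec = g
  rw [CommRingCat.ofHom_hom, Spec.map_preimage, hl]

theorem finiteType_int_of_locallyOfFiniteType (f : X ⟶ Spec (CommRingCat.of (ULift.{u} ℤ)))
    [LocallyOfFiniteType f] (U : X.affineOpens) : Algebra.FiniteType ℤ Γ(X, U) := by
  haveI := U.2.isOpenImmersion_fromSpec
  have h : LocallyOfFiniteType (U.2.fromSpec ≫ f) := inferInstance
  have e : Spec.map (Spec.preimage (U.2.fromSpec ≫ f)) = U.2.fromSpec ≫ f := Spec.map_preimage _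
  rw [← e, HasRingHomProperty.Spec_iff (P := @LocallyOfFiniteType)] at h
  have h2 : ((Spec.preimage (U.2.fromSpec ≫ f)).hom.comp
      (ULift.ringEquiv.symm : ℤ ≃+* ULift.{u} ℤ).toRingHom).FiniteType :=
    h.comp (RingHom.FiniteType.of_surjective _
      (ULift.ringEquiv.symm : ℤ ≃+* ULift.{u} ℤ).surjective)
  rw [RingHom.ext_int ((Spec.preimage (U.2.fromSpec ≫ f)).hom.comp
      (ULift.ringEquiv.symm : ℤ ≃+* ULift.{u} ℤ).toRingHom) (algebraMap ℤ Γ(X, U))] at h2
  exact RingHom.finiteType_algebraMap.mp h2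

theorem main13070 (f : X ⟶ Spec (CommRingCat.of (ULift.{u} ℤ))) [LocallyOfFiniteType f]
    [QuasiCompact f] (r : ℕ) (hr : topologicalKrullDim X ≤ r) :
    ∃ (c : ℝ) (p₀ : ℕ), 0 < c ∧ ∀ (p m : ℕ), p.Prime → 1 ≤ m →
      ∀ (F : Type u) [Field F], Nat.card F = p ^ m →
        (p₀ ≤ p → (Nat.card (Spec (CommRingCat.of F) ⟶ X) : ℝ) ≤
            c * (p : ℝ) ^ ((m : ℝ) * ((r : ℝ) - 1))) ∧
        (p < p₀ → (Nat.card (Spec (CommRingCat.of F) ⟶ X) : ℝ) ≤ c * (p : ℝ) ^ ((m : ℝ) * r)) := by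
  classical
  haveI : CompactSpace X := QuasiCompact.compactSpace_of_compactSpace f
  obtain ⟨s, hs, hU⟩ := (isCompact_iff_finite_and_eq_biUnion_affineOpens (U := (⊤ : X.Opens))).mp
    (by simpa using isCompact_univ)
  haveI := hs.fintype
  haveI hft : ∀ U : X.affineOpens, Algebra.FiniteType ℤ Γ(X, U) :=
    fun U => finiteType_int_of_locallyOfFiniteType f U
  have hN : ∀ U : X.affineOpens, ∃ N p₀ : ℕ, ∀ p : ℕ, p.Prime →
      ∀ (F : Type u) [Field F] [Finite F] [CharP F p],
      (p₀ ≤ p → Nat.card (Γ(X, U) →+* F) * Nat.card F ≤ N * Nat.card F ^ r) ∧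
        Nat.card (Γ(X, U) →+* F) ≤ N * Nat.card F ^ r :=
    fun U => ring_bound Γ(X, U) r
      ((Groth.Agent.Lib.Helper6.FFPts.ringKrullDim_affineOpen_le U).trans hr)
  choose N P₀ hNP using hN
  refine ⟨((∑ U : s, N U.1 : ℕ) : ℝ) + 1, ∑ U : s, P₀ U.1, by positivity, ?_⟩
  intro p m hp hm F _ hcard
  haveI hFfin : Finite F :=
    Nat.finite_of_card_ne_zero (by rw [hcard]; exact pow_ne_zero _ hp.ne_zero)
  haveI := Fact.mk hp
  haveI : CharP F p := by
    haveI := Fintype.ofFinite F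
    exact charP_of_card_eq_prime_pow (f := m) (by rw [← Nat.card_eq_fintype_card]; exact hcard)
  haveI : ∀ U : X.affineOpens, Finite (Γ(X, U) →+* F) :=
    fun U => Groth.Agent.Lib.Helper6.FTInt.finite_ringHom _ _
  let G : (Σ U : s, (Γ(X, U.1) →+* F)) → (Spec (CommRingCat.of F) ⟶ X) :=
    fun q => openMap F q.1.1 q.2
  have hG : Function.Surjective G := by
    intro g
    have hx : g (IsLocalRing.closedPoint F) ∈ (⊤ : X.Opens) := trivial
    rw [hU] at hx
    simp only [TopologicalSpace.Opens.mem_iSup] at hx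
    obtain ⟨U, hUs, hxU⟩ := hx
    obtain ⟨φ, hφ⟩ := mem_range_openMap F U g hxU
    exact ⟨⟨⟨U, hUs⟩, φ⟩, hφ⟩
  have h1 := Nat.card_le_card_of_surjective G hG
  rw [Nat.card_sigma] at h1
  have hp0 : (0 : ℝ) < (p : ℝ) := by exact_mod_cast hp.pos
  have hQpos : (0 : ℝ) < (p : ℝ) ^ m := pow_pos hp0 m
  have hQr : (0 : ℝ) ≤ ((p : ℝ) ^ m) ^ r := pow_nonneg hQpos.le r
  constructor
  · intro hle
    have hnat : Nat.card (Spec (CommRingCat.of F) ⟶ X) * Nat.card F ≤
        (∑ U : s, N U.1) * Nat.card F ^ r := by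
      refine (Nat.mul_le_mul_right _ h1).trans ?_
      rw [Finset.sum_mul, Finset.sum_mul]
      refine Finset.sum_le_sum fun U _ => ?_
      refine (hNP U.1 p hp F).1 ?_
      exact (Finset.single_le_sum (f := fun U : s => P₀ U.1) (fun _ _ => Nat.zero_le _)
        (Finset.mem_univ U)).trans hle
    rw [hcard] at hnat
    have hreal : (Nat.card (Spec (CommRingCat.of F) ⟶ X) : ℝ) * (p : ℝ) ^ m ≤
        ((∑ U : s, N U.1 : ℕ) : ℝ) * ((p : ℝ) ^ m) ^ r := by exact_mod_cast hnat
    have e1 : (p : ℝ) ^ ((m : ℝ) * ((r : ℝ) - 1)) = ((p : ℝ) ^ m) ^ r / (p : ℝ) ^ m := by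
      rw [Real.rpow_mul (Nat.cast_nonneg p), Real.rpow_natCast, Real.rpow_sub_one hQpos.ne',
        Real.rpow_natCast]
    rw [e1, ← mul_div_assoc, le_div_iff₀ hQpos]
    refine hreal.trans (mul_le_mul_of_nonneg_right ?_ hQr)
    linarith
  · intro hlt
    have hnat : Nat.card (Spec (CommRingCat.of F) ⟶ X) ≤ (∑ U : s, N U.1) * Nat.card F ^ r := by
      refine h1.trans ?_
      rw [Finset.sum_mul]
      exact Finset.sum_le_sum fun U _ => (hNP U.1 p hp F).2
    rw [hcard] at hnat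
    have hreal : (Nat.card (Spec (CommRingCat.of F) ⟶ X) : ℝ) ≤
        ((∑ U : s, N U.1 : ℕ) : ℝ) * ((p : ℝ) ^ m) ^ r := by exact_mod_cast hnat
    have e2 : (p : ℝ) ^ ((m : ℝ) * (r : ℝ)) = ((p : ℝ) ^ m) ^ r := by
      rw [Real.rpow_mul (Nat.cast_nonneg p), Real.rpow_natCast, Real.rpow_natCast]
    rw [e2]
    refine hreal.trans (mul_le_mul_of_nonneg_right ?_ hQr)
    linarith

end Groth.Agent.Lib.Helper6.ZetaBound
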