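import Mathlib
import Groth.Agent.Lib.Helper6.FTInt
import Groth.Agent.Lib.Helper6.ZetaBound.ZB4

set_option autoImplicit false
set_option linter.unusedSectionVars false
set_option linter.unusedVariables false
set_option linter.unusedSimpArgs false
set_option linter.style.haveILetI false
set_option maxHeartbeats 800000
set_option synthInstance.maxHeartbeats 400000

/-!
# Summability of `∑ N(x)^{-σ}` over the closed points of an arithmetic scheme, `σ > dim`
-/

noncomputable section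

universe u

open CategoryTheory AlgebraicGeometry

namespace Groth.Agent.Lib.Helper6.ZetaBound

variable {X : Scheme.{u}}

theorem surjective_openMap_sigma (F : Type u) [Field F] (s : Set X.affineOpens)
    (hU : (⊤ : X.Opens) = ⨆ i ∈ s, (i : X.Opens)) :
    Function.Surjective (fun q : (Σ U : s, (Γ(X, U.1) →+* F)) => openMap F q.1.1 q.2) := by
  intro g
  have hx : g (IsLocalRing.closedPoint F) ∈ (⊤ : X.Opens) := trivial
  rw [hU] at hx
  simp only [TopologicalSpace.Opens.mem_iSup] at hx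
  obtain ⟨U, hUs, hxU⟩ := hx
  obtain ⟨φ, hφ⟩ := mem_range_openMap F U g hxU
  exact ⟨⟨⟨U, hUs⟩, φ⟩, hφ⟩

theorem finite_hom_spec (f : X ⟶ Spec (CommRingCat.of (ULift.{u} ℤ))) [LocallyOfFiniteType f]
    [QuasiCompact f] (F : Type u) [Field F] [Finite F] :
    Finite (Spec (CommRingCat.of F) ⟶ X) := by
  classical
  haveI : CompactSpace X := QuasiCompact.compactSpace_of_compactSpace f
  obtain ⟨s, hs, hU⟩ := (isCompact_iff_finite_and_eq_biUnion_affineOpens (U := (⊤ : X.Opens))).mp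
    (by simpa using isCompact_univ)
  haveI := hs.fintype
  haveI hft : ∀ U : X.affineOpens, Algebra.FiniteType ℤ Γ(X, U) :=
    fun U => finiteType_int_of_locallyOfFiniteType f U
  haveI : ∀ U : X.affineOpens, Finite (Γ(X, U) →+* F) :=
    fun U => Groth.Agent.Lib.Helper6.FTInt.finite_ringHom _ _
  exact Finite.of_surjective _ (surjective_openMap_sigma F s hU)

/-- The natural number form of the bound on the number of points. -/
theorem main13070_nat (f : X ⟶ Spec (CommRingCat.of (ULift.{u} ℤ))) [LocallyOfFiniteType f]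
    [QuasiCompact f] (r : ℕ) (hr : topologicalKrullDim X ≤ r) :
    ∃ NN p₀ : ℕ, ∀ (p m : ℕ), p.Prime → ∀ (F : Type u) [Field F], Nat.card F = p ^ m →
      (p₀ ≤ p → Nat.card (Spec (CommRingCat.of F) ⟶ X) * p ^ m ≤ NN * (p ^ m) ^ r) ∧
        Nat.card (Spec (CommRingCat.of F) ⟶ X) ≤ NN * (p ^ m) ^ r := by
  classical
  haveI : CompactSpace X := QuasiCompact.compactSpace_of_compactSpace f
  obtain ⟨s, hs, hU⟩ := (isCompact_iff_finite_and_eq_biUnion_affineOpens (U := (⊤ : X.Opens))).mp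
    (by simpa using isCompact_univ)
  haveI := hs.fintype
  haveI hft : ∀ U : X.affineOpens, Algebra.FiniteType ℤ Γ(X, U) :=
    fun U => finiteType_int_of_locallyOfFiniteType f U
  have hN : ∀ U : X.affineOpens, ∃ N p₀ : ℕ, ∀ p : ℕ, p.Prime →
      ∀ (F : Type u) [Field F] [Finite F] [CharP F p],
      (p₀ ≤ p → Nat.card (Γ(X, U) →+* F) * Nat.card F ≤ N * Nat.card F ^ r) ∧
        Nat.card (Γ(X, U) →+* F) ≤ N * Nat.card F ^ r :=
    fun U => ring_bound Γ(X, U) r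
      ((Groth.Agent.Lib.Helper6.FFPts.ringKrullDim_affineOpen_le U).trans hr)
  choose N P₀ hNP using hN
  refine ⟨∑ U : s, N U.1, ∑ U : s, P₀ U.1, ?_⟩
  intro p m hp F _ hcard
  haveI hFfin : Finite F :=
    Nat.finite_of_card_ne_zero (by rw [hcard]; exact pow_ne_zero _ hp.ne_zero)
  haveI := Fact.mk hp
  haveI : CharP F p := by
    haveI := Fintype.ofFinite F
    exact charP_of_card_eq_prime_pow (f := m) (by rw [← Nat.card_eq_fintype_card]; exact hcard)
  haveI : ∀ U : X.affineOpens, Finite (Γ(X, U) →+* F) :=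
    fun U => Groth.Agent.Lib.Helper6.FTInt.finite_ringHom _ _
  have h1 := Nat.card_le_card_of_surjective _ (surjective_openMap_sigma F s hU)
  rw [Nat.card_sigma] at h1
  constructor
  · intro hle
    have hnat : Nat.card (Spec (CommRingCat.of F) ⟶ X) * Nat.card F ≤
        (∑ U : s, N U.1) * Nat.card F ^ r := by
      refine (Nat.mul_le_mul_right _ h1).trans ?_
      rw [Finset.sum_mul, Finset.sum_mul]
      refine Finset.sum_le_sum fun U _ => ?_
      refine (hNP U.1 p hp F).1 ?_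
      exact (Finset.single_le_sum (f := fun U : s => P₀ U.1) (fun _ _ => Nat.zero_le _)
        (Finset.mem_univ U)).trans hle
    rwa [hcard] at hnat
  · have hnat : Nat.card (Spec (CommRingCat.of F) ⟶ X) ≤ (∑ U : s, N U.1) * Nat.card F ^ r := by
      refine h1.trans ?_
      rw [Finset.sum_mul]
      exact Finset.sum_le_sum fun U _ => (hNP U.1 p hp F).2
    rwa [hcard] at hnat

/-- The points with residue field of the cardinality of `F` inject into the `F`-points. -/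
theorem card_pts_le (f : X ⟶ Spec (CommRingCat.of (ULift.{u} ℤ))) [LocallyOfFiniteType f]
    [QuasiCompact f] (F : Type u) [Field F] [Finite F] :
    Finite {x : X // Nat.card (X.residueField x) = Nat.card F} ∧
      Nat.card {x : X // Nat.card (X.residueField x) = Nat.card F} ≤
        Nat.card (Spec (CommRingCat.of F) ⟶ X) := by
  classical
  haveI := finite_hom_spec f F
  have hex : ∀ x : {x : X // Nat.card (X.residueField x) = Nat.card F},
      Nonempty (X.residueField x.1 ≃+* F) := by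
    intro x
    haveI : Finite (X.residueField x.1) :=
      Nat.finite_of_card_ne_zero (by rw [x.2]; exact Nat.card_pos.ne')
    haveI := Fintype.ofFinite (X.residueField x.1)
    haveI := Fintype.ofFinite F
    exact ⟨FiniteField.ringEquivOfCardEq
      (by rw [← Nat.card_eq_fintype_card, ← Nat.card_eq_fintype_card]; exact x.2)⟩
  let Ψ : {x : X // Nat.card (X.residueField x) = Nat.card F} →
      (Spec (CommRingCat.of F) ⟶ X) := fun x =>
    (Spec.map (CommRingCat.ofHom (hex x).some.toRingHom) :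
      Spec (CommRingCat.of F) ⟶ Spec (X.residueField x.1)) ≫ X.fromSpecResidueField x.1
  have hΨ : Function.Injective Ψ := by
    intro x y h
    apply Subtype.ext
    have h1 := congrArg
      (fun φ : Spec (CommRingCat.of F) ⟶ X => φ (IsLocalRing.closedPoint F)) h
    simp only [Ψ, Scheme.Hom.comp_apply, Scheme.fromSpecResidueField_apply] at h1
    exact h1
  exact ⟨Finite.of_injective Ψ hΨ, Nat.card_le_card_of_injective Ψ hΨ⟩

theorem finite_residueField_of_isClosed (f : X ⟶ Spec (CommRingCat.of (ULift.{u} ℤ)))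
    [LocallyOfFiniteType f] (x : X) (hx : IsClosed ({x} : Set X)) :
    Finite (X.residueField x) := by
  haveI : LocallyOfFiniteType (Limits.IsTerminal.from specULiftZIsTerminal.{u} X) := by
    rw [← specULiftZIsTerminal.{u}.hom_ext f (Limits.IsTerminal.from specULiftZIsTerminal.{u} X)]
    infer_instance
  exact (Groth.Agent.Lib.Helper6.FTInt.closed_iff_finite X x).mp hx

/-- Real estimate, good primes. -/
theorem real_est_good (T NN p m r : ℕ) (hp : 2 ≤ p) (σ : ℝ) (hσ : (r : ℝ) < σ)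
    (h : T * p ^ (m + 1) ≤ NN * (p ^ (m + 1)) ^ r) :
    (T : ℝ) * ((p : ℝ) ^ (m + 1)) ^ (-σ) ≤
      ((NN : ℝ) * (p : ℝ) ^ (-(1 + (σ - r)))) * (1 / 2) ^ m := by
  have hp0 : (0 : ℝ) < (p : ℝ) := by exact_mod_cast (by omega : 0 < p)
  have hp2 : (2 : ℝ) ≤ (p : ℝ) := by exact_mod_cast hp
  have hQ : (0 : ℝ) < (p : ℝ) ^ (m + 1) := pow_pos hp0 _
  have hz : 0 ≤ ((p : ℝ) ^ (m + 1)) ^ (-(1 + (σ - r))) := Real.rpow_nonneg hQ.le _
  have hw : 0 < ((p : ℝ) ^ (m + 1)) ^ r := pow_pos hQ r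
  have hreal : (T : ℝ) * (p : ℝ) ^ (m + 1) ≤ (NN : ℝ) * ((p : ℝ) ^ (m + 1)) ^ r := by
    exact_mod_cast h
  have e : ((p : ℝ) ^ (m + 1)) ^ (-σ) = (p : ℝ) ^ (m + 1) * (((p : ℝ) ^ (m + 1)) ^ r)⁻¹ *
      ((p : ℝ) ^ (m + 1)) ^ (-(1 + (σ - r))) := by
    rw [show -σ = 1 + -(r : ℝ) + -(1 + (σ - r)) by ring, Real.rpow_add hQ, Real.rpow_add hQ,
      Real.rpow_one, Real.rpow_neg hQ.le, Real.rpow_natCast]
  have step1 : (T : ℝ) * ((p : ℝ) ^ (m + 1)) ^ (-σ) ≤
      (NN : ℝ) * ((p : ℝ) ^ (m + 1)) ^ (-(1 + (σ - r))) := by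
    calc (T : ℝ) * ((p : ℝ) ^ (m + 1)) ^ (-σ)
        = ((T : ℝ) * (p : ℝ) ^ (m + 1)) * ((((p : ℝ) ^ (m + 1)) ^ r)⁻¹ *
            ((p : ℝ) ^ (m + 1)) ^ (-(1 + (σ - r)))) := by rw [e]; ring
      _ ≤ ((NN : ℝ) * ((p : ℝ) ^ (m + 1)) ^ r) * ((((p : ℝ) ^ (m + 1)) ^ r)⁻¹ *
            ((p : ℝ) ^ (m + 1)) ^ (-(1 + (σ - r)))) :=
          mul_le_mul_of_nonneg_right hreal (mul_nonneg (inv_nonneg.mpr hw.le) hz)
      _ = (NN : ℝ) * ((p : ℝ) ^ (m + 1)) ^ (-(1 + (σ - r))) := by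
          field_simp
  have hρ0 : 0 ≤ (p : ℝ) ^ (-(1 + (σ - r))) := Real.rpow_nonneg hp0.le _
  have hρ : (p : ℝ) ^ (-(1 + (σ - r))) ≤ 1 / 2 := by
    have h1 : (p : ℝ) ^ (-(1 + (σ - r))) ≤ (2 : ℝ) ^ (-(1 + (σ - r))) :=
      Real.rpow_le_rpow_of_nonpos (by norm_num) hp2 (by linarith)
    have h2 : (2 : ℝ) ^ (-(1 + (σ - r))) ≤ (2 : ℝ) ^ (-1 : ℝ) :=
      Real.rpow_le_rpow_of_exponent_le (by norm_num) (by linarith)
    rw [Real.rpow_neg_one] at h2
    linarith
  have step2 : ((p : ℝ) ^ (m + 1)) ^ (-(1 + (σ - r))) ≤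
      (p : ℝ) ^ (-(1 + (σ - r))) * (1 / 2) ^ m := by
    rw [← Real.rpow_pow_comm hp0.le, pow_succ, mul_comm]
    exact mul_le_mul_of_nonneg_left (pow_le_pow_left₀ hρ0 hρ m) hρ0
  calc (T : ℝ) * ((p : ℝ) ^ (m + 1)) ^ (-σ)
      ≤ (NN : ℝ) * ((p : ℝ) ^ (m + 1)) ^ (-(1 + (σ - r))) := step1
    _ ≤ (NN : ℝ) * ((p : ℝ) ^ (-(1 + (σ - r))) * (1 / 2) ^ m) :=
        mul_le_mul_of_nonneg_left step2 (Nat.cast_nonneg _)
    _ = ((NN : ℝ) * (p : ℝ) ^ (-(1 + (σ - r)))) * (1 / 2) ^ m := by ring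

/-- Real estimate, bad primes. -/
theorem real_est_bad (T NN p m r : ℕ) (hp : 2 ≤ p) (σ : ℝ) (hσ : (r : ℝ) < σ)
    (h : T ≤ NN * (p ^ (m + 1)) ^ r) :
    (T : ℝ) * ((p : ℝ) ^ (m + 1)) ^ (-σ) ≤ (NN : ℝ) * ((2 : ℝ) ^ (-(σ - r))) ^ (m + 1) := by
  have hp0 : (0 : ℝ) < (p : ℝ) := by exact_mod_cast (by omega : 0 < p)
  have hp2 : (2 : ℝ) ≤ (p : ℝ) := by exact_mod_cast hp
  have hQ : (0 : ℝ) < (p : ℝ) ^ (m + 1) := pow_pos hp0 _
  have hz : 0 ≤ ((p : ℝ) ^ (m + 1)) ^ (-(σ - r)) := Real.rpow_nonneg hQ.le _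
  have hw : 0 < ((p : ℝ) ^ (m + 1)) ^ r := pow_pos hQ r
  have hreal : (T : ℝ) ≤ (NN : ℝ) * ((p : ℝ) ^ (m + 1)) ^ r := by exact_mod_cast h
  have e : ((p : ℝ) ^ (m + 1)) ^ (-σ) = (((p : ℝ) ^ (m + 1)) ^ r)⁻¹ *
      ((p : ℝ) ^ (m + 1)) ^ (-(σ - r)) := by
    rw [show -σ = -(r : ℝ) + -(σ - r) by ring, Real.rpow_add hQ, Real.rpow_neg hQ.le,
      Real.rpow_natCast]
  have step1 : (T : ℝ) * ((p : ℝ) ^ (m + 1)) ^ (-σ) ≤
      (NN : ℝ) * ((p : ℝ) ^ (m + 1)) ^ (-(σ - r)) := by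
    calc (T : ℝ) * ((p : ℝ) ^ (m + 1)) ^ (-σ)
        = (T : ℝ) * ((((p : ℝ) ^ (m + 1)) ^ r)⁻¹ * ((p : ℝ) ^ (m + 1)) ^ (-(σ - r))) := by
          rw [e]
      _ ≤ ((NN : ℝ) * ((p : ℝ) ^ (m + 1)) ^ r) * ((((p : ℝ) ^ (m + 1)) ^ r)⁻¹ *
            ((p : ℝ) ^ (m + 1)) ^ (-(σ - r))) :=
          mul_le_mul_of_nonneg_right hreal (mul_nonneg (inv_nonneg.mpr hw.le) hz)
      _ = (NN : ℝ) * ((p : ℝ) ^ (m + 1)) ^ (-(σ - r)) := by
          field_simp
  have hρ0 : 0 ≤ (p : ℝ) ^ (-(σ - r)) := Real.rpow_nonneg hp0.le _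
  have hρ : (p : ℝ) ^ (-(σ - r)) ≤ (2 : ℝ) ^ (-(σ - r)) :=
    Real.rpow_le_rpow_of_nonpos (by norm_num) hp2 (by linarith)
  have step2 : ((p : ℝ) ^ (m + 1)) ^ (-(σ - r)) ≤ ((2 : ℝ) ^ (-(σ - r))) ^ (m + 1) := by
    rw [← Real.rpow_pow_comm hp0.le]
    exact pow_le_pow_left₀ hρ0 hρ _
  exact step1.trans (mul_le_mul_of_nonneg_left step2 (Nat.cast_nonneg _))

/-- The bounding function on pairs `(p, m)`. -/
def bnd (NN p₀ r : ℕ) (σ : ℝ) (b : ℕ × ℕ) : ℝ :=
  ((NN : ℝ) * (b.1 : ℝ) ^ (-(1 + (σ - r)))) * (1 / 2) ^ b.2 +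
    (if b.1 < p₀ then (1 : ℝ) else 0) * ((NN : ℝ) * ((2 : ℝ) ^ (-(σ - r))) ^ (b.2 + 1))

theorem bnd_nonneg (NN p₀ r : ℕ) (σ : ℝ) (b : ℕ × ℕ) : 0 ≤ bnd NN p₀ r σ b := by
  unfold bnd
  have h1 : 0 ≤ (b.1 : ℝ) ^ (-(1 + (σ - r))) := Real.rpow_nonneg (Nat.cast_nonneg _) _
  have h2 : 0 ≤ (2 : ℝ) ^ (-(σ - r)) := Real.rpow_nonneg (by norm_num) _
  have h3 : (0 : ℝ) ≤ (if b.1 < p₀ then (1 : ℝ) else 0) := by split_ifs <;> norm_num
  positivity

theorem summable_bnd (NN p₀ r : ℕ) (σ : ℝ) (hσ : (r : ℝ) < σ) : Summable (bnd NN p₀ r σ) := by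
  unfold bnd
  refine Summable.add ?_ ?_
  · refine summable_mul_of_summable_norm (f := fun p : ℕ => (NN : ℝ) * (p : ℝ) ^ (-(1 + (σ - r))))
      (g := fun m : ℕ => ((1 : ℝ) / 2) ^ m) ?_ ?_
    · refine Summable.norm ?_
      exact (Real.summable_nat_rpow.mpr (by linarith)).mul_left _
    · exact (summable_geometric_of_lt_one (by norm_num) (by norm_num)).norm
  · refine summable_mul_of_summable_norm (f := fun p : ℕ => (if p < p₀ then (1 : ℝ) else 0))
      (g := fun m : ℕ => (NN : ℝ) * ((2 : ℝ) ^ (-(σ - r))) ^ (m + 1)) ?_ ?_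
    · refine Summable.norm ?_
      refine summable_of_hasFiniteSupport ((Set.finite_lt_nat p₀).subset ?_)
      intro p hp
      by_contra h
      exact hp (if_neg h)
    · refine Summable.norm ?_
      have h0 : 0 ≤ (2 : ℝ) ^ (-(σ - r)) := Real.rpow_nonneg (by norm_num) _
      have h1 : (2 : ℝ) ^ (-(σ - r)) < 1 :=
        Real.rpow_lt_one_of_one_lt_of_neg (by norm_num) (by linarith)
      have h2 : (fun m : ℕ => (NN : ℝ) * ((2 : ℝ) ^ (-(σ - r))) ^ (m + 1)) =
          fun m : ℕ => ((NN : ℝ) * (2 : ℝ) ^ (-(σ - r))) * ((2 : ℝ) ^ (-(σ - r))) ^ m := by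
        funext m
        rw [pow_succ]
        ring
      rw [h2]
      exact (summable_geometric_of_lt_one h0 h1).mul_left _

/-- Summability of `N(x)^{-σ}` over the closed points. -/
theorem summable_closedPts (f : X ⟶ Spec (CommRingCat.of (ULift.{u} ℤ))) [LocallyOfFiniteType f]
    [QuasiCompact f] (r : ℕ) (hr : topologicalKrullDim X ≤ r) (σ : ℝ) (hσ : (r : ℝ) < σ) :
    Summable (fun x : {x : X | IsClosed ({x} : Set X)} =>
      (Nat.card (X.residueField x.1) : ℝ) ^ (-σ)) := by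
  classical
  obtain ⟨NN, p₀, hbound⟩ := main13070_nat f r hr
  have hdata : ∀ x : {x : X | IsClosed ({x} : Set X)}, ∃ b : ℕ × ℕ, b.1.Prime ∧
      Nat.card (X.residueField x.1) = b.1 ^ (b.2 + 1) := by
    intro x
    haveI := finite_residueField_of_isClosed f x.1 x.2
    haveI := Fintype.ofFinite (X.residueField x.1)
    obtain ⟨p, -, n, hp, hn⟩ := FiniteField.card' (X.residueField x.1)
    refine ⟨(p, (n : ℕ) - 1), hp, ?_⟩
    rw [Nat.card_eq_fintype_card, hn]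
    have hnpos := n.pos
    have h1 : (n : ℕ) - 1 + 1 = (n : ℕ) := by omega
    change p ^ (n : ℕ) = p ^ ((n : ℕ) - 1 + 1)
    rw [h1]
  choose ν hνp hνc using hdata
  have hfiber : ∀ b : ℕ × ℕ, Finite {x : {x : X | IsClosed ({x} : Set X)} // ν x = b} ∧
      (Nat.card {x : {x : X | IsClosed ({x} : Set X)} // ν x = b} : ℝ) *
        ((b.1 : ℝ) ^ (b.2 + 1)) ^ (-σ) ≤ bnd NN p₀ r σ b := by
    rintro ⟨p, m⟩
    by_cases hp : p.Prime
    · haveI := Fact.mk hp
      have hcardF : Nat.card (ULift.{u} (GaloisField p (m + 1))) = p ^ (m + 1) := by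
        rw [Nat.card_ulift]
        exact GaloisField.card p (m + 1) (Nat.succ_ne_zero _)
      haveI : Finite (ULift.{u} (GaloisField p (m + 1))) :=
        Nat.finite_of_card_ne_zero (by rw [hcardF]; exact pow_ne_zero _ hp.ne_zero)
      obtain ⟨hfin, hle⟩ := card_pts_le f (ULift.{u} (GaloisField p (m + 1)))
      haveI := hfin
      have hinj : Function.Injective
          (fun x : {x : {x : X | IsClosed ({x} : Set X)} // ν x = (p, m)} =>
            (⟨x.1.1, by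
              rw [hνc x.1, x.2, hcardF]⟩ :
              {x : X // Nat.card (X.residueField x) =
                Nat.card (ULift.{u} (GaloisField p (m + 1)))})) := by
        intro x y h
        apply Subtype.ext
        apply Subtype.ext
        have h' := congrArg Subtype.val h
        exact h'
      haveI : Finite {x : {x : X | IsClosed ({x} : Set X)} // ν x = (p, m)} :=
        Finite.of_injective _ hinj
      refine ⟨inferInstance, ?_⟩
      have hle2 : Nat.card {x : {x : X | IsClosed ({x} : Set X)} // ν x = (p, m)} ≤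
          Nat.card (Spec (CommRingCat.of (ULift.{u} (GaloisField p (m + 1)))) ⟶ X) :=
        (Nat.card_le_card_of_injective _ hinj).trans hle
      obtain ⟨hb1, hb2⟩ := hbound p (m + 1) hp (ULift.{u} (GaloisField p (m + 1))) hcardF
      have hznn : 0 ≤ ((p : ℝ) ^ (m + 1)) ^ (-σ) :=
        Real.rpow_nonneg (pow_nonneg (Nat.cast_nonneg _) _) _
      have hcast : (Nat.card {x : {x : X | IsClosed ({x} : Set X)} // ν x = (p, m)} : ℝ) ≤
          (Nat.card (Spec (CommRingCat.of (ULift.{u} (GaloisField p (m + 1)))) ⟶ X) : ℝ) := by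
        exact_mod_cast hle2
      refine (mul_le_mul_of_nonneg_right hcast hznn).trans ?_
      have h2 : 0 ≤ (2 : ℝ) ^ (-(σ - r)) := Real.rpow_nonneg (by norm_num) _
      have h1 : 0 ≤ (p : ℝ) ^ (-(1 + (σ - r))) := Real.rpow_nonneg (Nat.cast_nonneg _) _
      unfold bnd
      rcases le_or_gt p₀ p with hpp | hpp
      · refine (real_est_good _ NN p m r hp.two_le σ hσ (hb1 hpp)).trans ?_
        have h3 : (0 : ℝ) ≤ (if p < p₀ then (1 : ℝ) else 0) *
            ((NN : ℝ) * ((2 : ℝ) ^ (-(σ - r))) ^ (m + 1)) := by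
          have : (0 : ℝ) ≤ (if p < p₀ then (1 : ℝ) else 0) := by split_ifs <;> norm_num
          positivity
        exact le_add_of_nonneg_right h3
      · refine (real_est_bad _ NN p m r hp.two_le σ hσ hb2).trans ?_
        have h3 : (0 : ℝ) ≤ ((NN : ℝ) * (p : ℝ) ^ (-(1 + (σ - r)))) * (1 / 2) ^ m := by
          positivity
        change (NN : ℝ) * ((2 : ℝ) ^ (-(σ - r))) ^ (m + 1) ≤
          ((NN : ℝ) * (p : ℝ) ^ (-(1 + (σ - r)))) * (1 / 2) ^ m +
            (if p < p₀ then (1 : ℝ) else 0) * ((NN : ℝ) * ((2 : ℝ) ^ (-(σ - r))) ^ (m + 1))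
        rw [if_pos hpp, one_mul]
        exact le_add_of_nonneg_left h3
    · haveI : IsEmpty {x : {x : X | IsClosed ({x} : Set X)} // ν x = (p, m)} :=
        ⟨fun x => hp (by have := hνp x.1; rw [x.2] at this; exact this)⟩
      refine ⟨inferInstance, ?_⟩
      rw [Nat.card_of_isEmpty, Nat.cast_zero, zero_mul]
      exact bnd_nonneg _ _ _ _ _
  refine (Equiv.summable_iff (Equiv.sigmaFiberEquiv ν)).mp ?_
  refine (summable_sigma_of_nonneg
    (fun _ => Real.rpow_nonneg (Nat.cast_nonneg _) _)).mpr ⟨fun b => ?_, ?_⟩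
  · haveI := (hfiber b).1
    exact Summable.of_finite
  · refine Summable.of_nonneg_of_le
      (fun b => tsum_nonneg (fun _ => Real.rpow_nonneg (Nat.cast_nonneg _) _))
      (fun b => ?_) (summable_bnd NN p₀ r σ hσ)
    have hconst : ∀ y : {x : {x : X | IsClosed ({x} : Set X)} // ν x = b},
        (Nat.card (X.residueField ((Equiv.sigmaFiberEquiv ν) ⟨b, y⟩).1) : ℝ) ^ (-σ) =
          ((b.1 : ℝ) ^ (b.2 + 1)) ^ (-σ) := by
      intro y
      change ((Nat.card (X.residueField y.1.1) : ℕ) : ℝ) ^ (-σ) = _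
      rw [hνc y.1, y.2]
      push_cast
      rfl
    rw [tsum_congr hconst, tsum_const, nsmul_eq_mul]
    exact (hfiber b).2

end Groth.Agent.Lib.Helper6.ZetaBound
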