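import Mathlib
import Groth.Prelude.Def_W4c1zetahwZeta
import Groth.Agent.Lib.Helper6.ZetaBound.EP1
import Groth.Agent.Lib.Helper6.ZetaBound.EP2

set_option autoImplicit false
set_option linter.unusedSectionVars false
set_option linter.unusedVariables false
set_option linter.unusedSimpArgs false
set_option linter.style.haveILetI false
set_option maxHeartbeats 800000
set_option synthInstance.maxHeartbeats 400000

/-!
# Convergence and non-vanishing of the zeta function of an arithmetic scheme for `Re s > dim`
-/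

noncomputable section

universe u

open CategoryTheory AlgebraicGeometry

namespace Groth.Agent.Lib.Helper6.ZetaBound

/-- Effective zero cycles as finitely supported functions on the set of closed points. -/
def cycEquiv (X : Scheme.{u}) (n : ℕ) :
    { α : X →₀ ℕ // (∀ x ∈ α.support, IsClosed ({x} : Set X)) ∧
      α.prod (fun x m => Nat.card (X.residueField x) ^ m) = n } ≃
    { β : ({x : X | IsClosed ({x} : Set X)} : Set X) →₀ ℕ //
      β.prod (fun i e => Nat.card (X.residueField i.1) ^ e) = n } :=
  (Equiv.subtypeEquivRight (fun α : X →₀ ℕ =>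
    (Iff.rfl : ((∀ x ∈ α.support, IsClosed ({x} : Set X)) ∧
        α.prod (fun x m => Nat.card (X.residueField x) ^ m) = n) ↔
      (((α.support : Set X) ⊆ {x : X | IsClosed ({x} : Set X)}) ∧
        α.prod (fun x m => Nat.card (X.residueField x) ^ m) = n)))).trans
  ((Equiv.subtypeSubtypeEquivSubtypeInter
      (fun α : X →₀ ℕ => (α.support : Set X) ⊆ {x : X | IsClosed ({x} : Set X)})
      (fun α : X →₀ ℕ => α.prod (fun x m => Nat.card (X.residueField x) ^ m) = n)).symm.trans
    (Equiv.subtypeEquiv (Finsupp.restrictSupportEquiv {x : X | IsClosed ({x} : Set X)} ℕ)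
      (fun γ => by
        have h := Finsupp.prod_subtypeDomain_index
          (p := fun x => x ∈ {x : X | IsClosed ({x} : Set X)}) (v := γ.1)
          (h := fun x m => Nat.card (X.residueField x) ^ m)
          (fun x hx => γ.2 (Finset.mem_coe.mpr hx))
        change _ ↔ (Finsupp.subtypeDomain (fun x => x ∈ {x : X | IsClosed ({x} : Set X)})
          γ.1).prod (fun i e => Nat.card (X.residueField i.1) ^ e) = n
        rw [h])))

theorem arithCoeff_eq (X : Scheme.{u}) :
    Zeta.arithCoeff X = fun n =>
      (Nat.card {α : ({x : X | IsClosed ({x} : Set X)} : Set X) →₀ ℕ //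
        α.prod (fun i e => Nat.card (X.residueField i.1) ^ e) = n} : ℂ) := by
  funext n
  unfold Zeta.arithCoeff Zeta.cycleNormCount
  rw [Nat.card_congr (cycEquiv X n)]

theorem main13086 {X : Scheme.{u}} (f : X ⟶ Spec (CommRingCat.of (ULift.{u} ℤ)))
    [LocallyOfFiniteType f] [QuasiCompact f] (r : ℕ) (hr : topologicalKrullDim X ≤ r) :
    LSeries.abscissaOfAbsConv (Zeta.arithCoeff X) ≤ (r : ℝ) ∧
      ∀ s : ℂ, (r : ℝ) < s.re → LSeries (Zeta.arithCoeff X) s ≠ 0 := by
  rw [arithCoeff_eq]
  refine abstract_zeta (I := ({x : X | IsClosed ({x} : Set X)} : Set X))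
    (fun i => Nat.card (X.residueField i.1)) (fun i => ?_) (r : ℝ) (Nat.cast_nonneg r)
    (fun σ hσ => ?_)
  · haveI := finite_residueField_of_isClosed f i.1 i.2
    exact Finite.one_lt_card
  · exact summable_closedPts f r hr σ hσ

theorem main13084 {k : Type u} [Field k] [Finite k] {Y : Scheme.{u}}
    (f : Y ⟶ Spec (CommRingCat.of k)) [LocallyOfFiniteType f] [QuasiCompact f] (r : ℕ)
    (hr : topologicalKrullDim Y ≤ r) :
    LSeries.abscissaOfAbsConv (Zeta.arithCoeff Y) ≤ (r : ℝ) ∧
      ∀ s : ℂ, (r : ℝ) < s.re → LSeries (Zeta.arithCoeff Y) s ≠ 0 := by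
  let φ : ULift.{u} ℤ →+* k := (algebraMap ℤ k).comp (ULift.ringEquiv : ULift.{u} ℤ ≃+* ℤ).toRingHom
  have hφ : φ.FiniteType := by
    refine RingHom.Finite.finiteType ?_
    letI := φ.toAlgebra
    change (algebraMap (ULift.{u} ℤ) k).Finite
    rw [RingHom.finite_algebraMap]
    infer_instance
  haveI : LocallyOfFiniteType (Spec.map (CommRingCat.ofHom φ)) := by
    rw [HasRingHomProperty.Spec_iff (P := @LocallyOfFiniteType)]
    exact hφ
  exact main13086 (f ≫ Spec.map (CommRingCat.ofHom φ)) r hr

end Groth.Agent.Lib.Helper6.ZetaBound
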